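import Cfsg.Agent.Lib.StemCert.Cert
import Cfsg.Agent.Lib.SchurSplit.Core

/-!
The bound on the kernel of a stem extension given by a certificate, and the reduction of a cyclic
multiplier of order two to finitely many such bounds.
-/

set_option autoImplicit false

namespace Cfsg.Agent.StemCert

open scoped commutatorElement

universe u

/-- A transfer puts the kernel of a stem extension into every subgroup complementary to it modulo
`⟨c⟩` over a subgroup of index prime to the exponent. -/
theorem mem_zpowers_of_transfer {E G : Type*} [Group E] [Finite E] [Group G] (π : E →* G)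
    (hπ : Function.Surjective π) (hc : π.ker ≤ Subgroup.center E) {n : ℕ}
    (hexp : ∀ z ∈ π.ker, z ^ n = 1) (hd : π.ker ≤ commutator E) (T : Subgroup E) (cv : E)
    (hT : ∀ x ∈ T, π x = 1 → x ∈ Subgroup.zpowers cv) (hidx : Nat.Coprime n (T.map π).index) :
    π.ker ≤ Subgroup.zpowers cv := by
  classical
  have hcen : ∀ k : E, k ∈ π.ker → ∀ x : E, x * k = k * x := fun k hk x =>
    Subgroup.mem_center_iff.1 (hc hk) x
  haveI hkn : π.ker.Normal := π.normal_ker
  let W : Subgroup E := T ⊔ π.ker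
  have hWidx : W.index = (T.map π).index := by
    rw [← Subgroup.index_map_eq W hπ le_sup_right, Subgroup.map_sup,
      (Subgroup.map_eq_bot_iff π.ker).2 le_rfl, sup_bot_eq]
  have hWcomm : ⁅W, W⁆ ≤ T := by
    rw [Subgroup.commutator_le]
    intro x hx y hy
    obtain ⟨t, ht, v, hv, rfl⟩ := Subgroup.mem_sup_of_normal_right.1 hx
    obtain ⟨t', ht', v', hv', rfl⟩ := Subgroup.mem_sup_of_normal_right.1 hy
    have hv1 := hcen v hv
    have hv2 := hcen v' hv'
    have e : ⁅t * v, t' * v'⁆ = ⁅t, t'⁆ := by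
      simp only [commutatorElement_def, mul_inv_rev]
      calc t * v * (t' * v') * (v⁻¹ * t⁻¹) * (v'⁻¹ * t'⁻¹)
          = t * v * t' * (v' * (v⁻¹ * t⁻¹)) * v'⁻¹ * t'⁻¹ := by group
        _ = t * v * t' * ((v⁻¹ * t⁻¹) * v') * v'⁻¹ * t'⁻¹ := by rw [← hv2]
        _ = t * (v * t') * v⁻¹ * t⁻¹ * t'⁻¹ := by group
        _ = t * (t' * v) * v⁻¹ * t⁻¹ * t'⁻¹ := by rw [← hv1]
        _ = t * t' * t⁻¹ * t'⁻¹ := by group
    rw [e, commutatorElement_def]
    exact mul_mem (mul_mem (mul_mem ht ht') (inv_mem ht)) (inv_mem ht')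
  intro v hv
  haveI : W.FiniteIndex := Subgroup.finiteIndex_of_finite
  let φ : W →* Abelianization W := Abelianization.of
  have h0 : MonoidHom.transfer φ v = 1 := Abelianization.commutator_subset_ker _ (hd hv)
  have key : ∀ (k : ℕ) (g₀ : E), g₀⁻¹ * v ^ k * g₀ ∈ W → g₀⁻¹ * v ^ k * g₀ = v ^ k := by
    intro k g₀ _
    rw [hcen _ (pow_mem hv k) g₀⁻¹, inv_mul_cancel_right]
  rw [MonoidHom.transfer_eq_pow φ v key, ← MonoidHom.mem_ker, Abelianization.ker_of] at h0
  have h3 := Subgroup.mem_map_of_mem W.subtype h0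
  rw [Subgroup.map_subtype_commutator] at h3
  have h1 : v ^ W.index ∈ Subgroup.zpowers cv :=
    hT _ (hWcomm h3) (MonoidHom.mem_ker.1 (pow_mem hv _))
  rw [hWidx] at h1
  have hgcd := Nat.gcd_eq_gcd_ab n (T.map π).index
  rw [hidx] at hgcd
  have hv' : v = (v ^ (T.map π).index) ^ Nat.gcdB n (T.map π).index := by
    have h2 : v ^ (n : ℤ) = 1 := by rw [zpow_natCast]; exact hexp v hv
    conv_lhs => rw [← zpow_one v, show (1 : ℤ) = ((1 : ℕ) : ℤ) from rfl, hgcd, zpow_add, zpow_mul,
      h2, one_zpow, one_mul, zpow_mul, zpow_natCast]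
  rw [hv']
  exact zpow_mem h1 _

variable {Γ G : Type u} [Group Γ] [Finite Γ] [Group G]

open Cert in
/-- The bound of a certificate. -/
theorem ker_le_of_cert (C : Cert) (hshape : C.shapeOk = true) (htab : C.tabOk = true)
    (hlin : C.linOk = true) (g : ℕ → G) (γ : ℕ → G)
    (hrel : ∀ r < C.rels.length, ((C.rel r).1.map g).prod = ((C.rel r).2.map g).prod)
    (hslot : ∀ s < C.slots.length, γ (C.slot s).1 * C.sP g (C.slot s).2.1 =
      C.sP g (C.slot s).2.2 * γ (C.slot s).1)
    (hinj : ∀ e < C.N, ∀ f < C.N, C.sP g e = C.sP g f → e = f)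
    (hidx : ∀ H : Subgroup G, Nat.card H = C.N → Nat.Coprime C.n H.index)
    (π : Γ →* G) (hπ : Function.Surjective π) (hc : π.ker ≤ Subgroup.center Γ)
    (hd : π.ker ≤ commutator Γ) (hexp : ∀ z ∈ π.ker, z ^ C.n = 1) :
    ∃ cv : Γ, π.ker ≤ Subgroup.zpowers cv ∧ (C.c = 0 → cv = 1) ∧
      (∀ k, C.boundOk k = true → cv ^ k = 1) := by
  classical
  obtain ⟨hn, hN, hrels, hslots, -, -⟩ := shape hshape
  choose L hL using hπ
  let A : ℕ → Γ := fun i => L (g i)
  let Gc : ℕ → Γ := fun i => L (γ i)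
  have hπA : ∀ w : List ℕ, π ((w.map A).prod) = (w.map g).prod := fun w => by
    rw [map_list_prod, List.map_map]
    exact congrArg List.prod (List.map_congr_left fun i _ => hL (g i))
  let ν : ℕ → Γ := fun j =>
    if j < C.rels.length then ((C.rel j).1.map A).prod * (((C.rel j).2.map A).prod)⁻¹
    else if j - C.rels.length < C.slots.length then
      Gc (C.slot (j - C.rels.length)).1 * C.sP A (C.slot (j - C.rels.length)).2.1 *
        (C.sP A (C.slot (j - C.rels.length)).2.2 * Gc (C.slot (j - C.rels.length)).1)⁻¹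
    else 1
  have hker : ∀ j, ν j ∈ π.ker := by
    intro j
    simp only [ν]
    split_ifs with h1 h2
    · rw [MonoidHom.mem_ker, map_mul, map_inv, hπA, hπA, hrel j h1, mul_inv_cancel]
    · rw [MonoidHom.mem_ker]
      simp only [map_mul, map_inv, sP, hπA, Gc, hL]
      rw [mul_inv_eq_one]
      exact hslot _ h2
    · exact one_mem _
  have hν : Unk C ν := ⟨fun j => hc (hker j), fun j => hexp _ (hker j)⟩
  have hr : RelHyp C ν A := by
    intro r hr'
    simp only [ν, if_pos hr', inv_mul_cancel_right]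
  have hT := tab_sound hshape htab hν hr
  have hG : ∀ s < C.slots.length, Gc (C.slot s).1 * C.sP A (C.slot s).2.1 =
      ν (C.rels.length + s) * C.sP A (C.slot s).2.2 * Gc (C.slot s).1 := by
    intro s hs
    simp only [ν, if_neg (show ¬ C.rels.length + s < C.rels.length by omega), Nat.add_sub_cancel_left,
      if_pos hs]
    group
  simp only [linOk, Bool.and_eq_true, beq_iff_eq, List.all_eq_true, List.mem_range] at hlin
  obtain ⟨hder, hres⟩ := hlin
  have hrow : ∀ r, ev C.M ν (C.rows.getD r 0) = 1 := by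
    intro r
    by_cases hr' : r < C.rows.length
    · have hm : C.rows.getD r 0 ∈ C.derived := by
        rw [hder, List.getD_eq_getElem _ _ hr']; exact List.getElem_mem _
      simp only [derived, List.mem_append, List.mem_map] at hm
      rcases hm with ⟨x, hx, e⟩ | ⟨x, hx, e⟩ <;> rw [← e]
      · exact eqS_sound hshape hν hr hT hx
      · exact eqC_sound hshape hν hT hG hx
    · rw [List.getD_eq_default _ _ (not_lt.1 hr'), ev_zero]
  have hcombo : ∀ l, ev C.M ν (C.combo l) = 1 := by
    intro l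
    induction l with
    | nil => exact ev_zero _ _
    | cons q l ih =>
      obtain ⟨r, k⟩ := q
      rw [combo, ev_add hn hν, ev_fscale hn.1 hn.2 _ _ _ hν.cen hν.exp, hrow, one_pow, one_mul, ih]
  set cv : Γ := ev C.M ν C.c
  have hcvc : cv ∈ Subgroup.center Γ := ev_mem_center _ _ hν.cen _
  have hcvk : cv ∈ π.ker := ev_mem π.ker _ _ hker _
  let B : ℕ → Γ := fun k => ev C.M ν (C.D.getD k 0) * A k
  have hB : ∀ w : List ℕ, (w.map B).prod = ev C.M ν (C.dsum w) * (w.map A).prod := by
    intro w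
    induction w with
    | nil =>
      show (1 : Γ) = ev C.M ν 0 * 1
      rw [ev_zero, mul_one]
    | cons k w ih =>
      show B k * (w.map B).prod = ev C.M ν (fadd C.n C.M (C.D.getD k 0) (C.dsum w)) *
        (A k * (w.map A).prod)
      rw [ih, ev_fadd hn.1 hn.2 _ _ hν.cen hν.exp]
      show ev C.M ν (C.D.getD k 0) * A k * (ev C.M ν (C.dsum w) * (w.map A).prod) = _
      rw [mul_assoc (ev C.M ν (C.D.getD k 0)), ← mul_assoc (A k), comm_ev hν]
      simp only [mul_assoc]
  let ν' : ℕ → Γ := fun j => if j < C.rels.length then cv ^ C.eps.getD j 0 else 1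
  have hν' : Unk C ν' := by
    refine ⟨fun j => ?_, fun j => ?_⟩ <;> simp only [ν'] <;> split_ifs
    · exact pow_mem hcvc _
    · exact one_mem _
    · rw [← pow_mul, mul_comm, pow_mul, hexp cv hcvk, one_pow]
    · exact one_pow _
  have hr' : RelHyp C ν' B := by
    intro r hr''
    have h1 : ev C.M ν (C.resid r) = 1 := by
      rw [Nat.eq_of_beq_eq_true (hres r hr'')]; exact hcombo _
    rw [resid, ev_sub hn hν, ev_sub hn hν, ev_add hn hν,
      ev_fvar C.M ν r (lt_of_lt_of_le hr'' (Nat.le_add_right _ _)),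
      ev_fscale hn.1 hn.2 _ _ _ hν.cen hν.exp] at h1
    rw [hB, hB, hr r hr'']
    simp only [ν', if_pos hr'']
    rw [mul_inv_eq_one] at h1
    rw [show cv ^ C.eps.getD r 0 = ev C.M ν C.c ^ C.eps.getD r 0 from rfl, ← h1]
    have hcr := Subgroup.mem_center_iff.1 (hν.cen r) (ev C.M ν (C.dsum (C.rel r).1))
    simp only [mul_assoc, inv_mul_cancel_left]
    rw [← mul_assoc, hcr, mul_assoc]
  have hTB := tab_sound hshape htab hν' hr'
  let T : Subgroup Γ := Subgroup.closure ({x | ∃ i < C.m, B i = x} ∪ {cv})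
  have hev' : ∀ F, ev C.M ν' F ∈ Subgroup.zpowers cv := by
    refine ev_mem _ _ _ fun j => ?_
    simp only [ν']
    split_ifs
    · exact pow_mem (Subgroup.mem_zpowers cv) _
    · exact one_mem _
  have hform : ∀ x ∈ T, ∃ z ∈ Subgroup.zpowers cv, ∃ e < C.N, z * C.sP B e = x := by
    intro x hx
    rw [← Subgroup.mem_toSubmonoid, Subgroup.closure_toSubmonoid_of_finite] at hx
    induction hx using Submonoid.closure_induction_right with
    | one => exact ⟨1, one_mem _, 0, hN, by simp [sP, lets_zero]⟩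
    | mul_right x _ y hy ih =>
      obtain ⟨z, hz, e, he, rfl⟩ := ih
      rcases hy with ⟨i, hi, rfl⟩ | hy
      · obtain ⟨h1, h2⟩ := hTB i hi e he
        exact ⟨_, mul_mem hz (hev' _), _, h1, by rw [mul_assoc z, mul_assoc z, h2]⟩
      · rw [Set.mem_singleton_iff.1 hy]
        exact ⟨_, mul_mem hz (Subgroup.mem_zpowers cv), e, he, by
          rw [mul_assoc z, mul_assoc z, Subgroup.mem_center_iff.1 hcvc]⟩
  have hπB : ∀ e, π (C.sP B e) = C.sP g e := by
    intro e
    rw [sP, hB, map_mul, hπA, MonoidHom.mem_ker.1 (ev_mem π.ker C.M ν hker (C.dsum (C.lets e))),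
      one_mul]
    rfl
  have hzk : Subgroup.zpowers cv ≤ π.ker := Subgroup.zpowers_le.2 hcvk
  have hTk : ∀ x ∈ T, π x = 1 → x ∈ Subgroup.zpowers cv := by
    intro x hx h1
    obtain ⟨z, hz, e, he, rfl⟩ := hform x hx
    rw [map_mul, MonoidHom.mem_ker.1 (hzk hz), one_mul, hπB] at h1
    have : e = 0 := hinj e he 0 hN (h1.trans (by simp [sP, lets_zero]))
    simpa [this, sP, lets_zero] using hz
  have hcard : Nat.card (T.map π) = C.N := by
    have hmem : ∀ e, C.sP B e ∈ T := fun e => list_prod_mem fun y hy => by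
      obtain ⟨k, hk, rfl⟩ := List.mem_map.1 hy
      exact Subgroup.subset_closure (Or.inl ⟨k, lets_lt hk, rfl⟩)
    let f : Fin C.N → T.map π := fun e => ⟨π (C.sP B e), ⟨_, hmem e, rfl⟩⟩
    have hf : Function.Bijective f := by
      refine ⟨fun a b h => Fin.ext (hinj a a.2 b b.2 ?_), ?_⟩
      · have := congrArg Subtype.val h
        simpa only [f, hπB] using this
      · rintro ⟨y, x, hx, rfl⟩
        obtain ⟨z, hz, e, he, rfl⟩ := hform x hx
        exact ⟨⟨e, he⟩, Subtype.ext (by
          simp only [f, map_mul, MonoidHom.mem_ker.1 (hzk hz), one_mul])⟩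
    rw [← Nat.card_congr (Equiv.ofBijective f hf), Nat.card_fin]
  refine ⟨cv, mem_zpowers_of_transfer π (fun y => ⟨L y, hL y⟩) hc hexp hd T cv hTk (hidx _ hcard),
    fun h0 => ?_, fun k h2 => ?_⟩
  · show ev C.M ν C.c = 1
    rw [h0, ev_zero]
  · show ev C.M ν C.c ^ k = 1
    rw [← ev_fscale hn.1 hn.2 _ _ _ hν.cen hν.exp, Nat.eq_of_beq_eq_true h2]
    exact hcombo _

/-- A finite commutative group of order divisible by a prime has a subgroup of that index. -/
theorem exists_index_prime {A : Type*} [CommGroup A] [Finite A] {p : ℕ} (hp : p.Prime)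
    (h : p ∣ Nat.card A) : ∃ K : Subgroup A, K.index = p := by
  haveI : Fact p.Prime := ⟨hp⟩
  obtain ⟨K, hKmem, hmax⟩ := Set.exists_max_image {K : Subgroup A | p ∣ K.index}
    (fun K => Nat.card K) (Set.toFinite _) ⟨⊥, by simpa [Subgroup.index_bot] using h⟩
  refine ⟨K, ?_⟩
  by_contra hne
  obtain ⟨c, hc'⟩ : p ∣ K.index := hKmem
  have hc1 : c ≠ 1 := by rintro rfl; exact hne (by rw [hc', mul_one])
  obtain ⟨r, hr, hrc⟩ := Nat.exists_prime_and_dvd hc1
  haveI : Fact r.Prime := ⟨hr⟩
  obtain ⟨y, hy⟩ := exists_prime_orderOf_dvd_card' (G := A ⧸ K) r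
    (by rw [← Subgroup.index_eq_card, hc']; exact hrc.mul_left p)
  let R : Subgroup A := (Subgroup.zpowers y).comap (QuotientGroup.mk' K)
  have hRi : R.index * r = K.index := by
    rw [Subgroup.index_comap_of_surjective _ (QuotientGroup.mk'_surjective K), ← hy,
      ← Nat.card_zpowers, mul_comm, Subgroup.card_mul_index, Subgroup.index_eq_card]
  have hRp : p ∣ R.index := by
    obtain ⟨d, rfl⟩ := hrc
    refine ⟨d, Nat.eq_of_mul_eq_mul_right hr.pos ?_⟩
    rw [hRi, hc']; ring
  have h1 := hmax R hRp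
  have h2 := Subgroup.card_mul_index R
  have h3 := Subgroup.card_mul_index K
  rw [← hRi, ← h2] at h3
  have hRpos : 0 < R.index := Nat.pos_of_ne_zero Subgroup.index_ne_zero_of_finite
  have h4 : Nat.card K * r = Nat.card R :=
    Nat.eq_of_mul_eq_mul_right hRpos (by rw [← h3]; ring)
  have h5 : 0 < Nat.card K := Nat.card_pos
  have h6 : 2 ≤ r := hr.two_le
  nlinarith

/-- Every stem extension of `G` with kernel of order `n` is impossible. -/
def NoKer (G : Type u) [Group G] (n : ℕ) : Prop :=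
  ∀ (E : Type u) [Group E] [Finite E] (π : E →* G), Function.Surjective π →
    π.ker ≤ Subgroup.center E → π.ker ≤ commutator E → Nat.card π.ker ≠ n

/-- The quotient of a stem extension by part of its kernel. -/
theorem card_relIndex_ne {n : ℕ} (h : NoKer G n) (π : Γ →* G) (hπ : Function.Surjective π)
    (hc : π.ker ≤ Subgroup.center Γ) (hd : π.ker ≤ commutator Γ) {K₀ : Subgroup π.ker}
    (hK : K₀.index = n) : False := by
  let K : Subgroup Γ := K₀.map π.ker.subtype
  have hKle : K ≤ π.ker := Subgroup.map_subtype_le _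
  haveI : K.Normal := ⟨fun x hx g => by
    have := Subgroup.mem_center_iff.1 (hc (hKle hx)) g
    rwa [this, mul_inv_cancel_right]⟩
  let q : Γ ⧸ K →* G := QuotientGroup.lift K π hKle
  have hker : q.ker = π.ker.map (QuotientGroup.mk' K) := by
    ext x
    obtain ⟨x, rfl⟩ := QuotientGroup.mk_surjective x
    rw [MonoidHom.mem_ker]
    constructor
    · intro hx; exact ⟨x, MonoidHom.mem_ker.2 hx, rfl⟩
    · rintro ⟨y, hy, he⟩
      rw [← he]
      exact MonoidHom.mem_ker.1 hy
  refine h (Γ ⧸ K) q (fun y => ?_) ?_ ?_ ?_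
  · obtain ⟨x, rfl⟩ := hπ y
    exact ⟨QuotientGroup.mk x, rfl⟩
  · rw [hker]
    rintro _ ⟨y, hy, rfl⟩
    rw [Subgroup.mem_center_iff]
    intro z
    obtain ⟨x, rfl⟩ := QuotientGroup.mk_surjective z
    show ((x * y : Γ) : Γ ⧸ K) = ((y * x : Γ) : Γ ⧸ K)
    rw [Subgroup.mem_center_iff.1 (hc hy) x]
  · rw [hker]
    refine (Subgroup.map_mono hd).trans ?_
    rw [commutator_def, Subgroup.map_commutator, commutator_def]
    exact Subgroup.commutator_mono le_top le_top
  · let φ : π.ker →* Γ ⧸ K := (QuotientGroup.mk' K).comp π.ker.subtype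
    have hφk : φ.ker = K₀ := by
      ext x
      show (QuotientGroup.mk' K) (x : Γ) = 1 ↔ _
      rw [QuotientGroup.mk'_apply, QuotientGroup.eq_one_iff]
      exact Subgroup.mem_map_iff_mem π.ker.subtype_injective
    have hφr : φ.range = q.ker := by
      rw [hker, MonoidHom.range_comp, Subgroup.range_subtype]
    rw [← hφr, ← Nat.card_congr (QuotientGroup.quotientKerEquivRange φ).toEquiv, hφk]
    exact hK

/-- Stem kernels have order at most two if no stem kernel has odd prime order or order four. -/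
theorem card_ker_le_two (hodd : ∀ p, p.Prime → p ≠ 2 → NoKer G p) (h4 : NoKer G 4)
    (π : Γ →* G) (hπ : Function.Surjective π) (hc : π.ker ≤ Subgroup.center Γ)
    (hd : π.ker ≤ commutator Γ) : Nat.card π.ker = 1 ∨ Nat.card π.ker = 2 := by
  letI : CommGroup π.ker :=
    { (inferInstance : Group π.ker) with
      mul_comm := fun a b => Subtype.ext (Subgroup.mem_center_iff.1 (hc b.2) a) }
  have hpos : 0 < Nat.card π.ker := Nat.card_pos
  by_cases h1 : Nat.card π.ker = 1
  · exact Or.inl h1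
  have honly : ∀ p, p.Prime → p ∣ Nat.card π.ker → p = 2 := by
    intro p hp hdvd
    by_contra hne
    obtain ⟨K, hK⟩ := exists_index_prime hp hdvd
    exact card_relIndex_ne (hodd p hp hne) π hπ hc hd hK
  right
  obtain ⟨p, hp, hdvd⟩ := Nat.exists_prime_and_dvd h1
  obtain rfl := honly p hp hdvd
  obtain ⟨K, hK⟩ := exists_index_prime Nat.prime_two hdvd
  have hcard := Subgroup.card_mul_index K
  rw [hK] at hcard
  by_cases hK1 : Nat.card K = 1
  · omega
  exfalso
  obtain ⟨r, hr, hrd⟩ := Nat.exists_prime_and_dvd hK1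
  obtain rfl := honly r hr (hcard ▸ Dvd.dvd.mul_right hrd 2)
  obtain ⟨K', hK'⟩ := exists_index_prime (A := K) Nat.prime_two hrd
  refine card_relIndex_ne h4 π hπ hc hd (K₀ := K'.map K.subtype) ?_
  rw [Subgroup.index_map, K.range_subtype, Subgroup.ker_subtype, sup_bot_eq, hK, hK']

/-- A stem kernel has order dividing `q` if no stem kernel has another prime order or order `q ^ 2`. -/
theorem card_ker_le_prime {q : ℕ} (hq : q.Prime) (hother : ∀ p, p.Prime → p ≠ q → NoKer G p)
    (hsq : NoKer G (q ^ 2)) (π : Γ →* G) (hπ : Function.Surjective π)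
    (hc : π.ker ≤ Subgroup.center Γ) (hd : π.ker ≤ commutator Γ) :
    Nat.card π.ker = 1 ∨ Nat.card π.ker = q := by
  letI : CommGroup π.ker :=
    { (inferInstance : Group π.ker) with
      mul_comm := fun a b => Subtype.ext (Subgroup.mem_center_iff.1 (hc b.2) a) }
  by_cases h1 : Nat.card π.ker = 1
  · exact Or.inl h1
  have honly : ∀ p, p.Prime → p ∣ Nat.card π.ker → p = q := by
    intro p hp hdvd
    by_contra hne
    obtain ⟨K, hK⟩ := exists_index_prime hp hdvd
    exact card_relIndex_ne (hother p hp hne) π hπ hc hd hK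
  right
  obtain ⟨p, hp, hdvd⟩ := Nat.exists_prime_and_dvd h1
  obtain rfl := honly p hp hdvd
  obtain ⟨K, hK⟩ := exists_index_prime hp hdvd
  have hcard := Subgroup.card_mul_index K
  rw [hK] at hcard
  by_cases hK1 : Nat.card K = 1
  · rw [← hcard, hK1, one_mul]
  exfalso
  obtain ⟨r, hr, hrd⟩ := Nat.exists_prime_and_dvd hK1
  obtain rfl := honly r hr (hcard ▸ Dvd.dvd.mul_right hrd _)
  obtain ⟨K', hK'⟩ := exists_index_prime (A := K) hr hrd
  refine card_relIndex_ne hsq π hπ hc hd (K₀ := K'.map K.subtype) ?_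
  rw [Subgroup.index_map, K.range_subtype, Subgroup.ker_subtype, sup_bot_eq, hK, hK', sq]

end Cfsg.Agent.StemCert
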