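import Cfsg.Agent.Lib.StemCert.JankoThreeCheck

/-! Kernel check of the certificate at 2. -/

set_option autoImplicit false
set_option maxRecDepth 20000

namespace Cfsg.Agent.StemCert.JankoThree

theorem check2 : cert2.shapeOk = true ∧ cert2.tabOk = true ∧ cert2.linOk = true ∧
    groupOk cert2 gens2 conj2 forms2 = true ∧ cert2.c = 0 ∧ cert2.N = 128 ∧ cert2.n = 2 := by
  decide +kernel

end Cfsg.Agent.StemCert.JankoThree
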