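import Cfsg.Agent.Lib.StemCert.JankoThreeCheck

/-! Kernel check of the certificate at 3. -/

set_option autoImplicit false
set_option maxRecDepth 20000

namespace Cfsg.Agent.StemCert.JankoThree

theorem check3 : cert3.shapeOk = true ∧ cert3.tabOk = true ∧ cert3.linOk = true ∧
    groupOk cert3 gens3 conj3 forms3 = true ∧ cert3.boundOk 3 = true ∧ cert3.N = 243 ∧ cert3.n = 9 := by
  decide +kernel

end Cfsg.Agent.StemCert.JankoThree
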