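import Cfsg.Agent.Lib.StemCert.Bound
import Cfsg.Agent.Lib.StemCert.JankoThreeCheck2
import Cfsg.Agent.Lib.StemCert.JankoThreeCheck3
import Cfsg.Agent.Lib.SchurSplit.SmallMain
import Cfsg.Agent.Lib.JankoThree.Simple
import Cfsg.Prelude.Def_KGroupFacts

/-!
The Schur multiplier of J₃ has order three.
-/

set_option autoImplicit false

namespace Cfsg.Agent.StemCert.JankoThree

open Matrix Cfsg.Spor Cfsg.Agent.JankoThree
open scoped commutatorElement

universe u

variable {F : Type u} [Field F] [Fintype F] {ω : F} (hy : Hyp F ω)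

include hy

theorem exists_list_elt (l : List (ℕ × ℕ × ℕ × ℕ)) (h : memOk l = true) (i : ℕ) :
    ∃ g : threeJ3 F ω, Rep ω (g : GL F9 F) (codeOf l i) := by
  by_cases hi : i < l.length
  · simp only [memOk, List.all_eq_true, Bool.and_eq_true, Nat.blt_eq] at h
    obtain ⟨⟨⟨ha, hj⟩, hb⟩, he⟩ := h _ (List.getElem_mem hi)
    rw [codeOf, List.getD_eq_getElem _ _ hi]
    exact ⟨⟨hel hy l[i].2.1 * (dEl hy l[i].2.2.1 * hel hy l[i].2.2.2),
      mul_mem (stabH_le hy (hel_mem hy _)) (mul_mem (dEl_mem_J hy) (stabH_le hy (hel_mem hy _)))⟩,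
      ((hel_rep hy ha).mul hy.good ((dEl_rep hy hj).mul hy.good (hel_rep hy hb))).congr' hy.good he⟩
  · rw [codeOf, List.getD_eq_default _ _ (not_lt.1 hi)]
    exact ⟨1, rep_one hy.good⟩

theorem mk_eq_of_peq {x y : threeJ3 F ω} {M N : ℕ} (hx : Rep ω (x : GL F9 F) M)
    (hy' : Rep ω (y : GL F9 F) N) (h : peq M N = true) :
    (QuotientGroup.mk x : J3 F ω) = QuotientGroup.mk y := by
  obtain ⟨z, hz, e⟩ := (hx.congr hy.good h).unique hy'
  rw [QuotientGroup.eq]
  refine (mem_center_iff hy _).2 ?_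
  rw [Subgroup.coe_mul, Subgroup.coe_inv, e, ← mul_assoc, ← Zs_comm hz, mul_assoc, inv_mul_cancel,
    mul_one]
  exact hz

/-- The bound on stem extensions of `J₃` from a certificate. -/
theorem cert_bound (C : Cert) (gl cl : List (ℕ × ℕ × ℕ × ℕ)) (forms : List ℕ)
    (hshape : C.shapeOk = true) (htab : C.tabOk = true) (hlin : C.linOk = true)
    (hg : groupOk C gl cl forms = true) (hco : Nat.Coprime C.n (50232960 / C.N))
    {Γ : Type u} [Group Γ] [Finite Γ] (π : Γ →* J3 F ω) (hπ : Function.Surjective π)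
    (hc : π.ker ≤ Subgroup.center Γ) (hd : π.ker ≤ commutator Γ) (hexp : ∀ z ∈ π.ker, z ^ C.n = 1) :
    ∃ cv : Γ, π.ker ≤ Subgroup.zpowers cv ∧ (C.c = 0 → cv = 1) ∧
      (∀ k, C.boundOk k = true → cv ^ k = 1) := by
  classical
  simp only [groupOk, Bool.and_eq_true, List.all_eq_true, Nat.blt_eq, decide_eq_true_eq,
    List.mem_range] at hg
  obtain ⟨⟨⟨⟨⟨⟨⟨hgl, hcl⟩, -⟩, hslot⟩, hrel⟩, hlen⟩, hforms⟩, hnd⟩ := hg
  choose g₀ hg₀ using exists_list_elt hy gl hgl
  choose γ₀ hγ₀ using exists_list_elt hy cl hcl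
  let g : ℕ → J3 F ω := fun i => QuotientGroup.mk (g₀ i)
  let γ : ℕ → J3 F ω := fun i => QuotientGroup.mk (γ₀ i)
  have hw : ∀ w : List ℕ, Rep ω (((w.map g₀).prod : threeJ3 F ω) : GL F9 F) (wprod gl w) ∧
      ((w.map g).prod : J3 F ω) = QuotientGroup.mk (w.map g₀).prod := by
    intro w
    induction w with
    | nil => exact ⟨rep_one hy.good, rfl⟩
    | cons i w ih =>
      exact ⟨(hg₀ i).mul hy.good ih.1, by
        rw [List.map_cons, List.prod_cons, ih.2, List.map_cons, List.prod_cons, QuotientGroup.mk_mul]⟩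
  have hform : ∀ e < C.N,
      Rep ω ((((C.lets e).map g₀).prod : threeJ3 F ω) : GL F9 F) (forms.getD e 0) :=
    fun e he => (hw _).1.congr hy.good (hforms e he).2
  refine ker_le_of_cert C hshape htab hlin g γ ?_ ?_ ?_ ?_ π hπ hc hd hexp
  · intro r hr
    rw [(hw _).2, (hw _).2]
    refine mk_eq_of_peq hy (hw _).1 (hw _).1 (hrel _ ?_)
    rw [Cert.rel, List.getD_eq_getElem _ _ hr]; exact List.getElem_mem _
  · intro s hs
    have hm : C.slot s ∈ C.slots := by
      rw [Cert.slot, List.getD_eq_getElem _ _ hs]; exact List.getElem_mem _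
    obtain ⟨hq, hph⟩ := (Cert.shape hshape).2.2.2.1 _ hm
    obtain ⟨-, hpe⟩ := hslot _ hm
    simp only [Cert.sP, (hw _).2, γ, ← QuotientGroup.mk_mul]
    refine mk_eq_of_peq hy (M := mmul (codeOf cl (C.slot s).1) (forms.getD (C.slot s).2.1 0))
      (N := mmul (forms.getD (C.slot s).2.2 0) (codeOf cl (C.slot s).1)) ?_ ?_ hpe
    · exact (hγ₀ _).mul hy.good (hform _ hq)
    · exact (hform _ hph).mul hy.good (hγ₀ _)
  · intro e he f hf hef
    simp only [Cert.sP, (hw _).2] at hef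
    rw [QuotientGroup.eq, mem_center_iff hy, Subgroup.coe_mul, Subgroup.coe_inv] at hef
    obtain ⟨⟨m1, l1⟩, -⟩ := hforms e he
    obtain ⟨⟨m2, l2⟩, -⟩ := hforms f hf
    have h2 := (hform e he).zs_mul hef
    rw [Zs_comm hef, mul_inv_cancel_left] at h2
    have heq : forms.getD e 0 = forms.getD f 0 := h2.code_unique hy.good hy.card (hform f hf) l1 l2 m1 m2
    have hlen' := Nat.eq_of_beq_eq_true hlen
    rw [List.getD_eq_getElem _ _ (by omega), List.getD_eq_getElem _ _ (by omega)] at heq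
    exact (hnd.getElem_inj_iff).1 heq
  · intro H hH
    have h := Subgroup.card_mul_index H
    rw [hH, card_J3 hy] at h
    rw [← h, Nat.mul_div_cancel_left _ (hH ▸ Nat.card_pos)] at hco
    · exact hco

theorem noKer_other : ∀ p, p.Prime → p ≠ 3 → NoKer (J3 F ω) p := by
  intro p hp hp3 E _ _ π hπ hc hd hcard
  haveI : Finite (J3 F ω) := Finite.of_surjective π hπ
  have hJ : Nat.card (J3 F ω) = 50232960 := card_J3 hy
  by_cases hsq : p ^ 2 ∣ Nat.card (J3 F ω)
  swap
  · exact SchurSplit.noExt_of_sq_not_dvd hp hsq E π hπ hc hcard hd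
  have hexp : ∀ z ∈ π.ker, z ^ p = 1 := fun z hz => by
    have h := pow_card_eq_one' (x := (⟨z, hz⟩ : π.ker))
    rw [hcard] at h
    simpa [Subtype.ext_iff] using h
  have hp2 : p = 2 := by
    rw [hJ] at hsq
    have hdvd : p ∣ 50232960 := (dvd_pow_self p two_ne_zero).trans hsq
    have hfac : p ∈ Nat.primeFactorsList 50232960 :=
      (Nat.mem_primeFactorsList (by norm_num)).2 ⟨hp, hdvd⟩
    have hcases : p = 2 ∨ p = 3 ∨ p = 5 ∨ p = 17 ∨ p = 19 := by
      have hall : (50232960 : ℕ) = 2 ^ 7 * (3 ^ 5 * (5 * (17 * 19))) := by norm_num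
      rw [hall] at hdvd
      rcases hp.dvd_mul.1 hdvd with h | h
      · exact Or.inl ((Nat.prime_dvd_prime_iff_eq hp Nat.prime_two).1 (hp.dvd_of_dvd_pow h))
      rcases hp.dvd_mul.1 h with h | h
      · exact Or.inr (Or.inl ((Nat.prime_dvd_prime_iff_eq hp Nat.prime_three).1 (hp.dvd_of_dvd_pow h)))
      rcases hp.dvd_mul.1 h with h | h
      · exact Or.inr (Or.inr (Or.inl ((Nat.prime_dvd_prime_iff_eq hp (by norm_num)).1 h)))
      rcases hp.dvd_mul.1 h with h | h
      · exact Or.inr (Or.inr (Or.inr (Or.inl ((Nat.prime_dvd_prime_iff_eq hp (by norm_num)).1 h))))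
      · exact Or.inr (Or.inr (Or.inr (Or.inr ((Nat.prime_dvd_prime_iff_eq hp (by norm_num)).1 h))))
    clear hfac
    rcases hcases with rfl | rfl | rfl | rfl | rfl
    · rfl
    · exact absurd rfl hp3
    all_goals exact absurd hsq (by decide +kernel)
  subst hp2
  obtain ⟨h1, h2, h3, h4, h5, hN, hn⟩ := check2
  obtain ⟨cv, hle, h0, -⟩ := cert_bound hy cert2 gens2 conj2 forms2 h1 h2 h3 h4
    (by rw [hn, hN]; decide +kernel) π hπ hc hd (by rw [hn]; exact hexp)
  rw [h0 h5, Subgroup.zpowers_one_eq_bot, le_bot_iff] at hle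
  rw [hle, Subgroup.card_bot] at hcard
  omega

theorem noKer_nine : NoKer (J3 F ω) (3 ^ 2) := by
  intro E _ _ π hπ hc hd hcard
  have hexp : ∀ z ∈ π.ker, z ^ 9 = 1 := fun z hz => by
    have h := pow_card_eq_one' (x := (⟨z, hz⟩ : π.ker))
    rw [hcard] at h
    simpa [Subtype.ext_iff] using h
  obtain ⟨h1, h2, h3, h4, h5, hN, hn⟩ := check3
  obtain ⟨cv, hle, -, h0⟩ := cert_bound hy cert3 gens3 conj3 forms3 h1 h2 h3 h4
    (by rw [hn, hN]; decide +kernel) π hπ hc hd (by rw [hn]; exact hexp)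
  have hcard2 := Subgroup.card_le_of_le hle
  rw [Nat.card_zpowers, hcard] at hcard2
  have := orderOf_le_of_pow_eq_one (by norm_num) (h0 3 h5)
  omega

theorem stem_three : IsStemExtension (QuotientGroup.mk' (Subgroup.center (threeJ3 F ω))) := by
  refine ⟨QuotientGroup.mk'_surjective _, by rw [QuotientGroup.ker_mk'], ?_⟩
  rw [QuotientGroup.ker_mk']
  have key : ∀ a b, a < 43 → b < 43 → mmul (Cfsg.Agent.JankoThree.Data.cert.gen a) (Cfsg.Agent.JankoThree.Data.cert.gen b) =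
      mulW (mmul (Cfsg.Agent.JankoThree.Data.cert.gen b) (Cfsg.Agent.JankoThree.Data.cert.gen a)) →
      ∃ z : threeJ3 F ω, z ∈ commutator (threeJ3 F ω) ∧
        ((z : GL F9 F) : Matrix F9 F9 F) = ω • 1 := by
    intro a b ha hb e
    let x : threeJ3 F ω := ⟨genU hy a, genU_mem hy a⟩
    let y : threeJ3 F ω := ⟨genU hy b, genU_mem hy b⟩
    refine ⟨⁅x, y⁆, ?_, ?_⟩
    · rw [commutator_def]
      exact Subgroup.commutator_mem_commutator (Subgroup.mem_top _) (Subgroup.mem_top _)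
    have e1 : ((genU hy a * genU hy b : GL F9 F) : Matrix F9 F9 F) =
        ω • ((genU hy b * genU hy a : GL F9 F) : Matrix F9 F9 F) := by
      rw [Units.val_mul, Units.val_mul, genU_val hy ha, genU_val hy hb, ← mat_mmul hy.good, e,
        mat_mulW hy.good, mat_mmul hy.good]
    show ((genU hy a * genU hy b * (genU hy a)⁻¹ * (genU hy b)⁻¹ : GL F9 F) : Matrix F9 F9 F) = _
    rw [show genU hy a * genU hy b * (genU hy a)⁻¹ * (genU hy b)⁻¹ =
      (genU hy a * genU hy b) * (genU hy b * genU hy a)⁻¹ by group,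
      Units.val_mul, e1, Matrix.smul_mul, ← Units.val_mul, mul_inv_cancel, Units.val_one]
  obtain ⟨z, hz, hzv⟩ : ∃ z : threeJ3 F ω, z ∈ commutator (threeJ3 F ω) ∧
      ((z : GL F9 F) : Matrix F9 F9 F) = ω • 1 := by
    have h := Cfsg.Agent.JankoThree.Data.scalarOk
    simp only [Bool.or_eq_true] at h
    rcases h with h | h
    · exact key 3 21 (by norm_num) (by norm_num) (Nat.eq_of_beq_eq_true h)
    · exact key 21 3 (by norm_num) (by norm_num) (Nat.eq_of_beq_eq_true h)
  intro g hg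
  obtain ⟨c, hc, ec⟩ := mem_Zs.mp ((mem_center_iff hy g).1 hg)
  rcases nonzero_cases hy.card hy.good hc with rfl | rfl | rfl
  · have : g = 1 := Subtype.ext (Units.ext (by rw [ec, one_smul]; rfl))
    rw [this]; exact one_mem _
  · rw [show g = z from Subtype.ext (Units.ext (ec.trans hzv.symm))]; exact hz
  · rw [show g = z * z from Subtype.ext (Units.ext (by
      rw [Subgroup.coe_mul, ec, Units.val_mul, hzv]; simp [smul_smul]))]
    exact mul_mem hz hz

theorem multiplier : Cfsg.HasCyclicSchurMultiplier (J3 F ω) 3 := by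
  haveI : Fact (Nat.Prime 3) := ⟨Nat.prime_three⟩
  haveI : Finite (threeJ3 F ω) := Nat.finite_of_card_ne_zero (by rw [card_threeJ3 hy]; norm_num)
  have hker : Nat.card (QuotientGroup.mk' (Subgroup.center (threeJ3 F ω))).ker = 3 := by
    rw [QuotientGroup.ker_mk']; exact card_center hy
  refine ⟨⟨threeJ3 F ω, inferInstance, inferInstance, _, stem_three hy,
    ⟨mulEquivOfPrimeCardEq (p := 3) hker (by simp)⟩⟩, ?_⟩
  intro Γ _ _ σ hσ
  obtain ⟨hs, hc, hd⟩ := hσ
  rcases card_ker_le_prime Nat.prime_three (noKer_other hy) (noKer_nine hy) σ hs hc hd with h | h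
  · haveI := (Nat.card_eq_one_iff_unique.1 h).1
    exact ⟨1, fun x => ⟨1, Subsingleton.elim _ _⟩⟩
  · have e : Multiplicative (ZMod 3) ≃* σ.ker := mulEquivOfPrimeCardEq (p := 3) (by simp) h
    exact ⟨e.toMonoidHom, e.surjective⟩

end Cfsg.Agent.StemCert.JankoThree
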