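import Mathlib
import Cfsg.Prelude.Def_KGroupFacts

/-!
The central extension given by the corestriction of a cocycle of a subgroup with values in a field
of prime order, and a criterion for it to be a stem extension.
-/

set_option autoImplicit false

namespace Cfsg.Agent.StemCert.Cor

open scoped commutatorElement

universe u

/-- A normalised cocycle on a subgroup, and coset representatives. -/
structure Datum (G : Type u) [Group G] (p : ℕ) where
  /-- the subgroup -/
  B : Subgroup G
  /-- representatives -/
  rep : G ⧸ B → G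
  rep_spec : ∀ x, (QuotientGroup.mk (rep x) : G ⧸ B) = x
  /-- the cocycle -/
  c : G → G → ZMod p
  one_left : ∀ h ∈ B, c 1 h = 0
  one_right : ∀ g ∈ B, c g 1 = 0
  cocycle : ∀ g ∈ B, ∀ h ∈ B, ∀ k ∈ B, c g h + c (g * h) k = c h k + c g (h * k)

variable {G : Type u} [Group G] [Finite G] {p : ℕ} (D : Datum G p)

/-- The coordinate in the subgroup. -/
def mon (g : G) (x : G ⧸ D.B) : G := (D.rep (g • x))⁻¹ * g * D.rep x

omit [Finite G] in
theorem mon_mem (g : G) (x : G ⧸ D.B) : mon D g x ∈ D.B := by
  rw [mon, mul_assoc, ← QuotientGroup.eq, D.rep_spec]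
  conv_lhs => rw [← D.rep_spec x]
  rfl

omit [Finite G] in
theorem mon_mul (g h : G) (x : G ⧸ D.B) : mon D (g * h) x = mon D g (h • x) * mon D h x := by
  simp only [mon, mul_smul]
  group

omit [Finite G] in
theorem mon_one (x : G ⧸ D.B) : mon D 1 x = 1 := by simp [mon]

/-- The corestricted cocycle. -/
noncomputable def cor (g h : G) : ZMod p :=
  letI := Fintype.ofFinite (G ⧸ D.B)
  ∑ x : G ⧸ D.B, D.c (mon D g (h • x)) (mon D h x)

theorem cor_one_left (g : G) : cor D 1 g = 0 := by
  refine Finset.sum_eq_zero fun x _ => ?_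
  rw [mon_one, D.one_left _ (mon_mem D g x)]

theorem cor_one_right (g : G) : cor D g 1 = 0 := by
  refine Finset.sum_eq_zero fun x _ => ?_
  rw [mon_one, D.one_right _ (mon_mem D g _)]

theorem cor_cocycle (g h k : G) : cor D g h + cor D (g * h) k = cor D h k + cor D g (h * k) := by
  letI := Fintype.ofFinite (G ⧸ D.B)
  simp only [cor]
  rw [← Equiv.sum_comp (MulAction.toPerm k) fun x => D.c (mon D g (h • x)) (mon D h x),
    ← Finset.sum_add_distrib, ← Finset.sum_add_distrib]
  refine Finset.sum_congr rfl fun x _ => ?_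
  show D.c (mon D g (h • (k • x))) (mon D h (k • x)) + _ = _
  rw [mon_mul D g h (k • x), mon_mul D h k x, mul_smul h k x]
  exact D.cocycle _ (mon_mem D _ _) _ (mon_mem D _ _) _ (mon_mem D _ _)

/-- The carrier of the extension. -/
@[ext] structure Ext (D : Datum G p) : Type u where
  /-- image -/
  img : G
  /-- central part -/
  cen : ZMod p

variable {D}

noncomputable instance : Group (Ext D) where
  mul x y := ⟨x.img * y.img, x.cen + y.cen + cor D x.img y.img⟩
  one := ⟨1, 0⟩
  inv x := ⟨x.img⁻¹, -x.cen - cor D x.img⁻¹ x.img⟩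
  mul_assoc x y z := by
    refine Ext.ext (mul_assoc _ _ _) ?_
    show x.cen + y.cen + cor D x.img y.img + z.cen + cor D (x.img * y.img) z.img =
      x.cen + (y.cen + z.cen + cor D y.img z.img) + cor D x.img (y.img * z.img)
    linear_combination (norm := abel) cor_cocycle D x.img y.img z.img
  one_mul x := by
    refine Ext.ext (one_mul _) ?_
    show 0 + x.cen + cor D 1 x.img = x.cen
    rw [cor_one_left, zero_add, add_zero]
  mul_one x := by
    refine Ext.ext (mul_one _) ?_
    show x.cen + 0 + cor D x.img 1 = x.cen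
    rw [cor_one_right, add_zero, add_zero]
  inv_mul_cancel x := by
    refine Ext.ext (inv_mul_cancel _) ?_
    show -x.cen - cor D x.img⁻¹ x.img + x.cen + cor D x.img⁻¹ x.img = 0
    abel

theorem img_mul_aux (x y : Ext D) : (x * y).img = x.img * y.img := rfl

theorem cen_mul (x y : Ext D) : (x * y).cen = x.cen + y.cen + cor D x.img y.img := rfl

instance [NeZero p] : Finite (Ext D) :=
  Finite.of_injective (fun x => (x.img, x.cen)) fun _ _ h =>
    Ext.ext (congrArg Prod.fst h) (congrArg Prod.snd h)

variable (D)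

/-- The projection. -/
noncomputable def proj : Ext D →* G where
  toFun := Ext.img
  map_one' := rfl
  map_mul' _ _ := rfl

theorem mem_center_of_img {x : Ext D} (hx : x.img = 1) : x ∈ Subgroup.center (Ext D) := by
  rw [Subgroup.mem_center_iff]
  intro y
  refine Ext.ext (by rw [img_mul_aux, img_mul_aux, hx, mul_one, one_mul]) ?_
  rw [cen_mul, cen_mul, hx, cor_one_left, cor_one_right, add_comm y.cen]

/-- The kernel has prime order. -/
theorem card_ker : Nat.card (proj D).ker = p := by
  refine (Nat.card_congr ?_).trans (Nat.card_zmod p)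
  exact
    { toFun := fun x => x.1.cen
      invFun := fun v => ⟨⟨1, v⟩, rfl⟩
      left_inv := fun x => Subtype.ext (Ext.ext x.2.symm rfl)
      right_inv := fun _ => rfl }

/-- The extension is a stem extension once two commuting elements have lifts that do not commute. -/
theorem proj_stem [Fact p.Prime] {a b : G} (hab : a * b = b * a) (hne : cor D a b ≠ cor D b a) :
    Cfsg.IsStemExtension (proj D) := by
  refine ⟨fun g => ⟨⟨g, 0⟩, rfl⟩, fun x hx => mem_center_of_img D hx, ?_⟩
  haveI : NeZero p := ⟨(Fact.out : p.Prime).ne_zero⟩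
  let A : Ext D := ⟨a, 0⟩
  let B : Ext D := ⟨b, 0⟩
  let z : Ext D := ⟨1, cor D a b - cor D b a⟩
  have e : A * B = z * (B * A) := by
    refine Ext.ext ?_ ?_
    · show a * b = 1 * (b * a)
      rw [one_mul, hab]
    · rw [cen_mul, cen_mul, cen_mul]
      show (0 : ZMod p) + 0 + cor D a b = cor D a b - cor D b a + (0 + 0 + cor D b a) + cor D 1 (b * a)
      rw [cor_one_left]
      abel
  have hz : z ∈ commutator (Ext D) := by
    rw [show z = ⁅A, B⁆ by rw [commutatorElement_def, e]; group]
    exact Subgroup.commutator_mem_commutator (Subgroup.mem_top _) (Subgroup.mem_top _)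
  have hzk : z ∈ (proj D).ker := rfl
  intro x hx
  have h := mem_zpowers_of_prime_card (card_ker D) (g := (⟨z, hzk⟩ : (proj D).ker))
    (g' := (⟨x, hx⟩ : (proj D).ker)) ?_
  · obtain ⟨k, hk⟩ := Subgroup.mem_zpowers_iff.1 h
    rw [show x = z ^ k from (congrArg Subtype.val hk).symm.trans (Subgroup.coe_zpow _ _ k)]
    exact zpow_mem hz k
  · intro h1
    exact sub_ne_zero.2 hne (congrArg (fun y : (proj D).ker => y.1.cen) h1)

end Cfsg.Agent.StemCert.Cor
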