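import Cfsg.Agent.Lib.StemCert.Forms

/-!
A linear certificate bounding the kernel of a stem extension by collection in a Sylow subgroup.

The unknowns are the values of the relations of a polycyclic presentation in chosen lifts and of
finitely many conjugation identities; the certificate shows that after changing the lifts all relation
values lie in a cyclic group `⟨c⟩`, so that a transfer puts the kernel there.
-/

set_option autoImplicit false

namespace Cfsg.Agent.StemCert

/-- The certificate. -/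
structure Cert where
  /-- number of generators -/
  m : ℕ
  /-- their relative order -/
  p : ℕ
  /-- exponent of the kernel -/
  n : ℕ
  /-- relations, two words -/
  rels : List (List ℕ × List ℕ)
  /-- conjugation identities: conjugator and two normal forms -/
  slots : List (ℕ × ℕ × ℕ)
  /-- for each generator and normal form: value, product, relation used -/
  tab : List (List (ℕ × ℕ × ℕ))
  /-- consistency equations: normal form and relation -/
  eqs : List (ℕ × ℕ)
  /-- conjugation equations: two words in the slots -/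
  ceqs : List (List ℕ × List ℕ)
  /-- the resulting rows -/
  rows : List ℕ
  /-- change of lifts -/
  D : List ℕ
  /-- the cyclic bound -/
  c : ℕ
  /-- exponent of the bound in each relation -/
  eps : List ℕ
  /-- each residual as a combination of rows: row and coefficient -/
  combs : List (List (ℕ × ℕ))
  /-- twice the bound as a combination of rows -/
  cc : List (ℕ × ℕ)

namespace Cert

variable (C : Cert)

/-- Number of normal forms. -/
def N : ℕ := C.p ^ C.m
/-- Number of unknowns. -/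
def M : ℕ := C.rels.length + C.slots.length
/-- The letters of a normal form. -/
def lets (e : ℕ) : List ℕ := (List.range C.m).flatMap fun i => List.replicate (e / C.p ^ i % C.p) i
/-- A relation. -/
def rel (r : ℕ) : List ℕ × List ℕ := C.rels.getD r ([], [])
/-- The conjugation identity `s`. -/
def slot (s : ℕ) : ℕ × ℕ × ℕ := C.slots.getD s (0, 0, 0)
/-- A table entry. -/
def T (i e : ℕ) : ℕ × ℕ × ℕ := (C.tab.getD i []).getD e (0, 0, 0)
/-- Sum of forms. -/
def add (F G : ℕ) : ℕ := fadd C.n C.M F G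
/-- Difference of forms. -/
def sub (F G : ℕ) : ℕ := fsub C.n C.M F G

/-- Right multiplication by a word. -/
def mulW : ℕ × ℕ → List ℕ → ℕ × ℕ
  | p, [] => p
  | p, k :: ks => mulW (C.add p.1 (C.T k p.2).1, (C.T k p.2).2.1) ks

/-- The right side of a relation uses only earlier table entries. -/
def rhsOk (i : ℕ) : List ℕ → Bool
  | [] => true
  | k :: ks => Nat.ble i k && Nat.blt k C.m && ks.all (fun l => Nat.blt i l && Nat.blt l C.m)

/-- One entry of the table follows from the others. -/
def stepOk (i e : ℕ) : Bool :=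
  let q := C.T i e
  Nat.blt q.2.1 C.N &&
    ((Nat.beq q.1 0 && C.lets q.2.1 == C.lets e ++ [i]) ||
      (let w := C.rel q.2.2
       let u := w.1.dropLast
       let e1 := e - (u.map fun k => C.p ^ k).sum
       w.1 == u ++ [i] && Nat.blt q.2.2 C.rels.length && Nat.blt e1 e &&
         C.lets e == C.lets e1 ++ u && C.rhsOk i w.2 &&
         C.mulW (fvar q.2.2, e1) w.2 == (q.1, q.2.1)))

/-- The table. -/
def tabOk : Bool := (List.range C.m).all fun i => (List.range C.N).all fun e => C.stepOk i e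

/-- A consistency equation. -/
def eqS (x : ℕ × ℕ) : ℕ :=
  let L := C.mulW (0, x.1) (C.rel x.2).1
  let R := C.mulW (fvar x.2, x.1) (C.rel x.2).2
  bif Nat.beq L.2 R.2 then C.sub L.1 R.1 else 0

/-- The two collections of a word in the slots. -/
def evalSlots (w : List ℕ) : (ℕ × ℕ) × (ℕ × ℕ) :=
  (C.mulW (0, 0) (w.flatMap fun s => C.lets (C.slot s).2.1),
    let G := C.mulW (0, 0) (w.flatMap fun s => C.lets (C.slot s).2.2)
    (C.add (fsum C.n C.M (w.map fun s => fvar (C.rels.length + s))) G.1, G.2))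

/-- A conjugation equation. -/
def eqC (x : List ℕ × List ℕ) : ℕ :=
  let a := C.evalSlots x.1
  let b := C.evalSlots x.2
  bif Nat.beq a.1.2 b.1.2 && Nat.beq a.2.2 b.2.2 then C.sub (C.sub a.2.1 a.1.1) (C.sub b.2.1 b.1.1)
  else 0

/-- The derived rows. -/
def derived : List ℕ := C.eqs.map C.eqS ++ C.ceqs.map C.eqC

/-- A combination of rows. -/
def combo : List (ℕ × ℕ) → ℕ
  | [] => 0
  | (r, k) :: l => C.add (fscale C.n k C.M (C.rows.getD r 0)) (combo l)

/-- Sum of the changes along a word. -/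
def dsum (w : List ℕ) : ℕ := fsum C.n C.M (w.map fun k => C.D.getD k 0)

/-- The remaining value of a relation. -/
def resid (r : ℕ) : ℕ :=
  C.sub (C.sub (C.add (fvar r) (C.dsum (C.rel r).1)) (C.dsum (C.rel r).2))
    (fscale C.n (C.eps.getD r 0) C.M C.c)

/-- The words are in range. -/
def shapeOk : Bool :=
  Nat.blt 0 C.n && Nat.ble C.n 16 && Nat.blt 0 C.p &&
    C.rels.all (fun w => (w.1 ++ w.2).all fun k => Nat.blt k C.m) &&
    C.slots.all (fun s => Nat.blt s.2.1 C.N && Nat.blt s.2.2 C.N) &&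
    C.eqs.all (fun x => Nat.blt x.2 C.rels.length && Nat.blt x.1 C.N) &&
    C.ceqs.all (fun x => (x.1 ++ x.2).all fun s => Nat.blt s C.slots.length &&
      Nat.beq (C.slot s).1 (C.slot ((x.1 ++ x.2).headD 0)).1)

/-- The linear algebra. -/
def linOk : Bool :=
  C.derived == C.rows &&
    (List.range C.rels.length).all (fun r => Nat.beq (C.resid r) (C.combo (C.combs.getD r [])))

/-- A multiple of the bound vanishes. -/
def boundOk (k : ℕ) : Bool := Nat.beq (fscale C.n k C.M C.c) (C.combo C.cc)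

variable {C}
variable {Γ G : Type*} [Group Γ] [Group G]

/-- The lift of a normal form. -/
def sP (C : Cert) (A : ℕ → Γ) (e : ℕ) : Γ := ((C.lets e).map A).prod

theorem lets_zero (C : Cert) : C.lets 0 = [] := by
  simp [lets]

/-- The hypotheses on the values of relations. -/
def RelHyp (C : Cert) (ν : ℕ → Γ) (A : ℕ → Γ) : Prop :=
  ∀ r < C.rels.length, ((C.rel r).1.map A).prod = ν r * ((C.rel r).2.map A).prod

/-- The hypotheses on the unknowns. -/
structure Unk (C : Cert) (ν : ℕ → Γ) : Prop where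
  cen : ∀ j, ν j ∈ Subgroup.center Γ
  exp : ∀ j, ν j ^ C.n = 1

/-- A table entry is right. -/
def GoodAt (C : Cert) (ν A : ℕ → Γ) (i e : ℕ) : Prop :=
  (C.T i e).2.1 < C.N ∧ C.sP A e * A i = ev C.M ν (C.T i e).1 * C.sP A (C.T i e).2.1

variable {ν A : ℕ → Γ}

theorem comm_ev (hν : Unk C ν) (F : ℕ) (x : Γ) : x * ev C.M ν F = ev C.M ν F * x :=
  Subgroup.mem_center_iff.1 (ev_mem_center _ _ hν.cen F) x

theorem ev_add (hn : 0 < C.n ∧ C.n ≤ 16) (hν : Unk C ν) (F F' : ℕ) :
    ev C.M ν (C.add F F') = ev C.M ν F * ev C.M ν F' :=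
  ev_fadd hn.1 hn.2 _ _ hν.cen hν.exp _ _

theorem ev_sub (hn : 0 < C.n ∧ C.n ≤ 16) (hν : Unk C ν) (F F' : ℕ) :
    ev C.M ν (C.sub F F') = ev C.M ν F * (ev C.M ν F')⁻¹ :=
  ev_fsub hn.1 hn.2 hν.cen hν.exp _ _

theorem mulW_spec (hn : 0 < C.n ∧ C.n ≤ 16) (hν : Unk C ν) : ∀ (ks : List ℕ),
    (∀ k ∈ ks, ∀ e < C.N, GoodAt C ν A k e) → ∀ v e, e < C.N →
      (C.mulW (v, e) ks).2 < C.N ∧ ev C.M ν v * C.sP A e * (ks.map A).prod =
        ev C.M ν (C.mulW (v, e) ks).1 * C.sP A (C.mulW (v, e) ks).2
  | [], _, v, e, he => ⟨he, by simp [mulW]⟩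
  | k :: ks, h, v, e, he => by
    obtain ⟨h1, h2⟩ := h k List.mem_cons_self e he
    obtain ⟨h3, h4⟩ := mulW_spec hn hν ks (fun x hx => h x (List.mem_cons_of_mem _ hx))
      (C.add v (C.T k e).1) (C.T k e).2.1 h1
    refine ⟨h3, ?_⟩
    show _ = ev C.M ν (C.mulW (C.add v (C.T k e).1, (C.T k e).2.1) ks).1 *
      C.sP A (C.mulW (C.add v (C.T k e).1, (C.T k e).2.1) ks).2
    rw [← h4, ev_add hn hν, List.map_cons, List.prod_cons, mul_assoc (ev C.M ν v) (C.sP A e),
      ← mul_assoc (C.sP A e), h2]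
    simp only [mul_assoc]

theorem shape (h : C.shapeOk = true) : (0 < C.n ∧ C.n ≤ 16) ∧ 0 < C.N ∧
    (∀ w ∈ C.rels, ∀ k ∈ w.1 ++ w.2, k < C.m) ∧
    (∀ s ∈ C.slots, s.2.1 < C.N ∧ s.2.2 < C.N) ∧
    (∀ x ∈ C.eqs, x.2 < C.rels.length ∧ x.1 < C.N) ∧
    (∀ x ∈ C.ceqs, ∀ s ∈ x.1 ++ x.2, s < C.slots.length ∧
      (C.slot s).1 = (C.slot ((x.1 ++ x.2).headD 0)).1) := by
  simp only [shapeOk, Bool.and_eq_true, Nat.blt, Nat.ble_eq, List.all_eq_true] at h
  obtain ⟨⟨⟨⟨⟨⟨h1, h2⟩, h3⟩, h4⟩, h5⟩, h6⟩, h7⟩ := h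
  exact ⟨⟨h1, h2⟩, Nat.pow_pos h3, h4, fun s hs => ⟨(h5 s hs).1, (h5 s hs).2⟩,
    fun x hx => ⟨(h6 x hx).1, (h6 x hx).2⟩,
    fun x hx s hs => ⟨(h7 x hx s hs).1, Nat.eq_of_beq_eq_true (h7 x hx s hs).2⟩⟩

theorem lets_lt {e k : ℕ} (h : k ∈ C.lets e) : k < C.m := by
  simp only [lets, List.mem_flatMap, List.mem_replicate, List.mem_range] at h
  obtain ⟨i, hi, -, rfl⟩ := h
  exact hi

theorem tab_sound (hs : C.shapeOk = true) (ht : C.tabOk = true) (hν : Unk C ν) (hr : RelHyp C ν A) :
    ∀ i < C.m, ∀ e < C.N, GoodAt C ν A i e := by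
  obtain ⟨hn, -, -⟩ := shape hs
  suffices H : ∀ d i, C.m - i ≤ d → i < C.m → ∀ e < C.N, GoodAt C ν A i e from
    fun i => H C.m i (by omega)
  intro d
  induction d with
  | zero => intro i hi hi'; omega
  | succ d ih =>
    intro i hi hi' e
    induction e using Nat.strong_induction_on with
    | _ e ihe =>
      intro he
      simp only [tabOk, List.all_eq_true, List.mem_range] at ht
      have h := ht i hi' e he
      simp only [stepOk, Bool.and_eq_true, Bool.or_eq_true, Nat.blt, Nat.ble_eq, beq_iff_eq] at h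
      obtain ⟨hlt, h | h⟩ := h
      · refine ⟨hlt, ?_⟩
        rw [Nat.eq_of_beq_eq_true h.1, ev_zero, one_mul]
        simp [sP, h.2]
      · obtain ⟨⟨⟨⟨⟨hl, hr'⟩, he1⟩, hsplit⟩, hrhs⟩, hm⟩ := h
        refine ⟨hlt, ?_⟩
        generalize (C.T i e).2.2 = r at hl hr' he1 hsplit hrhs hm ⊢
        generalize (C.rel r).1.dropLast = u at hl he1 hsplit hm
        generalize e - (u.map fun k => C.p ^ k).sum = e1 at he1 hsplit hm
        have e0 : C.sP A e * A i = ν r * C.sP A e1 * ((C.rel r).2.map A).prod := by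
          rw [sP, hsplit, List.map_append, List.prod_append, mul_assoc,
            show (u.map A).prod * A i = ((C.rel r).1.map A).prod by rw [hl]; simp,
            hr r (by omega), ← mul_assoc]
          congr 1
          exact (Subgroup.mem_center_iff.1 (hν.cen r) _)
        rw [e0, ← ev_fvar C.M ν r (lt_of_lt_of_le (show r < C.rels.length by omega) (Nat.le_add_right _ _))]
        cases hw : (C.rel r).2 with
        | nil =>
          rw [hw] at hm
          simp only [mulW, Prod.mk.injEq] at hm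
          rw [hm.1, hm.2]
          simp
        | cons k ks =>
          rw [hw] at hm hrhs
          simp only [rhsOk, Bool.and_eq_true, Nat.blt, Nat.ble_eq, List.all_eq_true] at hrhs
          obtain ⟨⟨hk, hkm⟩, hks⟩ := hrhs
          have he1N : e1 < C.N := by omega
          have g1 : GoodAt C ν A k e1 := by
            rcases eq_or_lt_of_le hk with rfl | hlt'
            · exact ihe e1 (by omega) he1N
            · exact ih k (by omega) (by omega) e1 he1N
          have g2 : ∀ l ∈ ks, ∀ e' < C.N, GoodAt C ν A l e' := fun l hl' e' he' =>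
            ih l (by have := hks l hl'; omega) (by have := hks l hl'; omega) e' he'
          have h4 := (mulW_spec hn hν ks g2 (C.add (fvar r) (C.T k e1).1) (C.T k e1).2.1 g1.1).2
          rw [show C.mulW (C.add (fvar r) (C.T k e1).1, (C.T k e1).2.1) ks =
            ((C.T i e).1, (C.T i e).2.1) from hm] at h4
          rw [← h4, ev_add hn hν, List.map_cons, List.prod_cons,
            mul_assoc (ev C.M ν (fvar r)) (C.sP A e1), ← mul_assoc (C.sP A e1), g1.2]
          simp only [mul_assoc]

theorem sP_mul_word (hn : 0 < C.n ∧ C.n ≤ 16) (hν : Unk C ν)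
    (hT : ∀ i < C.m, ∀ e < C.N, GoodAt C ν A i e) {ks : List ℕ} (hk : ∀ k ∈ ks, k < C.m)
    (v : ℕ) {e : ℕ} (he : e < C.N) :
    (C.mulW (v, e) ks).2 < C.N ∧ ev C.M ν v * C.sP A e * (ks.map A).prod =
      ev C.M ν (C.mulW (v, e) ks).1 * C.sP A (C.mulW (v, e) ks).2 :=
  mulW_spec hn hν ks (fun k hk' => hT k (hk k hk')) v e he

theorem eqS_sound (hs : C.shapeOk = true) (hν : Unk C ν) (hr : RelHyp C ν A)
    (hT : ∀ i < C.m, ∀ e < C.N, GoodAt C ν A i e) {x : ℕ × ℕ} (hx : x ∈ C.eqs) :
    ev C.M ν (C.eqS x) = 1 := by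
  obtain ⟨hn, -, hrels, -, heqs, -⟩ := shape hs
  obtain ⟨hxr, hxe⟩ := heqs x hx
  rw [eqS]
  cases hb : Nat.beq (C.mulW (0, x.1) (C.rel x.2).1).2 (C.mulW (fvar x.2, x.1) (C.rel x.2).2).2 with
  | false => exact ev_zero _ _
  | true =>
    have hmem : C.rel x.2 ∈ C.rels := by
      rw [rel, List.getD_eq_getElem _ _ hxr]; exact List.getElem_mem _
    have hL := (sP_mul_word hn hν hT (ks := (C.rel x.2).1)
      (fun k hk => hrels _ hmem k (List.mem_append_left _ hk)) 0 hxe).2
    have hR := (sP_mul_word hn hν hT (ks := (C.rel x.2).2)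
      (fun k hk => hrels _ hmem k (List.mem_append_right _ hk)) (fvar x.2) hxe).2
    rw [ev_zero, one_mul, hr x.2 hxr, ← mul_assoc, Subgroup.mem_center_iff.1 (hν.cen x.2),
      Nat.eq_of_beq_eq_true hb] at hL
    rw [ev_fvar C.M ν x.2 (lt_of_lt_of_le hxr (Nat.le_add_right _ _))] at hR
    rw [hR] at hL
    simp only [cond_true, ev_sub hn hν]
    rw [← mul_right_cancel hL, mul_inv_cancel]

theorem ev_slotVars (hn : 0 < C.n ∧ C.n ≤ 16) (hν : Unk C ν) {w : List ℕ}
    (hw : ∀ s ∈ w, s < C.slots.length) :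
    ev C.M ν (fsum C.n C.M (w.map fun s => fvar (C.rels.length + s))) =
      (w.map fun s => ν (C.rels.length + s)).prod := by
  rw [ev_fsum hn.1 hn.2 hν.cen hν.exp, List.map_map]
  refine congrArg List.prod (List.map_congr_left fun s hs => ?_)
  exact ev_fvar _ _ _ (Nat.add_lt_add_left (hw s hs) _)

theorem slots_prod {g : Γ} (hν : Unk C ν) :
    ∀ w : List ℕ, (∀ s ∈ w, g * C.sP A (C.slot s).2.1 =
      ν (C.rels.length + s) * C.sP A (C.slot s).2.2 * g) →
    g * ((w.flatMap fun s => C.lets (C.slot s).2.1).map A).prod =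
      (w.map fun s => ν (C.rels.length + s)).prod *
        ((w.flatMap fun s => C.lets (C.slot s).2.2).map A).prod * g
  | [], _ => by simp
  | s :: w, h => by
    simp only [List.flatMap_cons, List.map_append, List.prod_append, List.map_cons, List.prod_cons]
    rw [show ((C.lets (C.slot s).2.1).map A).prod = C.sP A (C.slot s).2.1 from rfl, ← mul_assoc,
      h s List.mem_cons_self, mul_assoc _ g, slots_prod hν w fun x hx => h x (List.mem_cons_of_mem _ hx),
      show ((C.lets (C.slot s).2.2).map A).prod = C.sP A (C.slot s).2.2 from rfl]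
    have hc : (w.map fun s => ν (C.rels.length + s)).prod ∈ Subgroup.center Γ :=
      list_prod_mem fun x hx => by
        obtain ⟨j, -, rfl⟩ := List.mem_map.1 hx; exact hν.cen _
    have := Subgroup.mem_center_iff.1 hc (C.sP A (C.slot s).2.2)
    simp only [← mul_assoc]
    rw [mul_assoc (ν _) (C.sP A _), this, ← mul_assoc]

theorem eqC_sound (hs : C.shapeOk = true) (hν : Unk C ν)
    (hT : ∀ i < C.m, ∀ e < C.N, GoodAt C ν A i e) {Gc : ℕ → Γ}
    (hG : ∀ s < C.slots.length, Gc (C.slot s).1 * C.sP A (C.slot s).2.1 =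
      ν (C.rels.length + s) * C.sP A (C.slot s).2.2 * Gc (C.slot s).1)
    {x : List ℕ × List ℕ} (hx : x ∈ C.ceqs) : ev C.M ν (C.eqC x) = 1 := by
  obtain ⟨hn, hN, -, -, -, hceqs⟩ := shape hs
  have h0 := hceqs x hx
  rw [eqC]
  cases hb : Nat.beq (C.evalSlots x.1).1.2 (C.evalSlots x.2).1.2 &&
      Nat.beq (C.evalSlots x.1).2.2 (C.evalSlots x.2).2.2 with
  | false => exact ev_zero _ _
  | true =>
    simp only [Bool.and_eq_true] at hb
    set g := Gc (C.slot ((x.1 ++ x.2).headD 0)).1
    have key : ∀ w : List ℕ, (∀ s ∈ w, s ∈ x.1 ++ x.2) →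
        g * C.sP A (C.evalSlots w).1.2 = ev C.M ν (C.sub (C.evalSlots w).2.1 (C.evalSlots w).1.1) *
          C.sP A (C.evalSlots w).2.2 * g := by
      intro w hw
      have hlet : ∀ (f : ℕ → ℕ), ∀ k ∈ w.flatMap (fun s => C.lets (f s)), k < C.m := fun f k hk => by
        obtain ⟨s, -, hs'⟩ := List.mem_flatMap.1 hk
        exact lets_lt hs'
      have hsp : g * ((w.flatMap fun s => C.lets (C.slot s).2.1).map A).prod =
          (w.map fun s => ν (C.rels.length + s)).prod *
            ((w.flatMap fun s => C.lets (C.slot s).2.2).map A).prod * g := by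
        refine slots_prod hν w fun s hs' => ?_
        have := hG s (h0 s (hw s hs')).1
        rwa [(h0 s (hw s hs')).2] at this
      have hF := (sP_mul_word hn hν hT (hlet fun s => (C.slot s).2.1) 0 hN).2
      have hH := (sP_mul_word hn hν hT (hlet fun s => (C.slot s).2.2) 0 hN).2
      rw [ev_zero, one_mul, sP, lets_zero, List.map_nil, List.prod_nil, one_mul] at hF hH
      rw [hF, hH, ← ev_slotVars hn hν fun s hs' => (h0 s (hw s hs')).1] at hsp
      simp only [evalSlots, ev_sub hn hν, ev_add hn hν]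
      have hac := ev_mem_center C.M ν hν.cen
        (C.mulW (0, 0) (w.flatMap fun s => C.lets (C.slot s).2.1)).1
      generalize ev C.M ν (C.mulW (0, 0) (w.flatMap fun s => C.lets (C.slot s).2.1)).1 = a at hsp hac ⊢
      generalize C.sP A (C.mulW (0, 0) (w.flatMap fun s => C.lets (C.slot s).2.1)).2 = u at hsp ⊢
      generalize C.sP A (C.mulW (0, 0) (w.flatMap fun s => C.lets (C.slot s).2.2)).2 = v at hsp ⊢
      generalize ev C.M ν (fsum C.n C.M (w.map fun s => fvar (C.rels.length + s))) = S at hsp ⊢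
      generalize ev C.M ν (C.mulW (0, 0) (w.flatMap fun s => C.lets (C.slot s).2.2)).1 = b at hsp ⊢
      have h1 : a * (g * u) = S * (b * v) * g := by
        rw [← hsp, ← mul_assoc g, Subgroup.mem_center_iff.1 hac g, mul_assoc]
      calc g * u = a⁻¹ * (a * (g * u)) := by group
        _ = a⁻¹ * (S * b) * v * g := by rw [h1]; simp only [mul_assoc]
        _ = S * b * a⁻¹ * v * g := by rw [← Subgroup.mem_center_iff.1 (inv_mem hac) (S * b)]
    have k1 := key x.1 (fun s hs' => List.mem_append_left _ hs')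
    have k2 := key x.2 (fun s hs' => List.mem_append_right _ hs')
    rw [Nat.eq_of_beq_eq_true hb.1, k2, Nat.eq_of_beq_eq_true hb.2] at k1
    simp only [cond_true]
    rw [ev_sub hn hν, mul_inv_eq_one]
    exact (mul_right_cancel (mul_right_cancel k1)).symm

end Cert

end Cfsg.Agent.StemCert
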