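import Mathlib

/-!
Linear forms in unknown central elements of bounded exponent, packed in digits of base sixteen.
-/

set_option autoImplicit false

namespace Cfsg.Agent.StemCert

/-- The unknown number `j`. -/
def fvar (j : ℕ) : ℕ := 16 ^ j

/-- Sum of forms modulo `n`, on the first digits. -/
def fadd (n : ℕ) : ℕ → ℕ → ℕ → ℕ
  | 0, _, _ => 0
  | M + 1, F, G => (F % 16 + G % 16) % n + 16 * fadd n M (F / 16) (G / 16)

/-- Multiple of a form modulo `n`, on the first digits. -/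
def fscale (n c : ℕ) : ℕ → ℕ → ℕ
  | 0, _ => 0
  | M + 1, F => (c * (F % 16)) % n + 16 * fscale n c M (F / 16)

/-- Sum of a list of forms. -/
def fsum (n M : ℕ) : List ℕ → ℕ
  | [] => 0
  | F :: l => fadd n M F (fsum n M l)

/-- Difference of forms. -/
def fsub (n M F G : ℕ) : ℕ := fadd n M F (fscale n (n - 1) M G)

variable {Γ : Type*} [Group Γ]

/-- The value of a form. -/
def ev : ℕ → (ℕ → Γ) → ℕ → Γ
  | 0, _, _ => 1
  | M + 1, ν, F => ν 0 ^ (F % 16) * ev M (fun j => ν (j + 1)) (F / 16)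

variable {n : ℕ}

theorem pow_mod_eq {x : Γ} (hx : x ^ n = 1) (a : ℕ) : x ^ (a % n) = x ^ a :=
  (pow_eq_pow_mod a hx).symm

theorem ev_zero : ∀ M (ν : ℕ → Γ), ev M ν 0 = 1
  | 0, _ => rfl
  | M + 1, ν => by
    show ν 0 ^ (0 % 16) * ev M _ (0 / 16) = 1
    simp [ev_zero M]

theorem ev_mem_center : ∀ M (ν : ℕ → Γ), (∀ j, ν j ∈ Subgroup.center Γ) → ∀ F,
    ev M ν F ∈ Subgroup.center Γ
  | 0, _, _, _ => one_mem _
  | M + 1, ν, h, F => mul_mem (pow_mem (h 0) _) (ev_mem_center M _ (fun j => h (j + 1)) _)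

theorem ev_mem (S : Subgroup Γ) : ∀ M (ν : ℕ → Γ), (∀ j, ν j ∈ S) → ∀ F, ev M ν F ∈ S
  | 0, _, _, _ => one_mem _
  | M + 1, ν, h, F => mul_mem (pow_mem (h 0) _) (ev_mem S M _ (fun j => h (j + 1)) _)

theorem ev_fadd (hn0 : 0 < n) (hn : n ≤ 16) : ∀ M (ν : ℕ → Γ), (∀ j, ν j ∈ Subgroup.center Γ) →
    (∀ j, ν j ^ n = 1) → ∀ F G, ev M ν (fadd n M F G) = ev M ν F * ev M ν G
  | 0, _, _, _, _, _ => (one_mul 1).symm
  | M + 1, ν, hc, hp, F, G => by
    have hd : (F % 16 + G % 16) % n < 16 := lt_of_lt_of_le (Nat.mod_lt _ hn0) hn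
    have e : ev M (fun j => ν (j + 1)) (fadd n M (F / 16) (G / 16)) =
        ev M (fun j => ν (j + 1)) (F / 16) * ev M (fun j => ν (j + 1)) (G / 16) :=
      ev_fadd hn0 hn M _ (fun j => hc (j + 1)) (fun j => hp (j + 1)) _ _
    simp only [ev, fadd]
    rw [show ((F % 16 + G % 16) % n + 16 * fadd n M (F / 16) (G / 16)) % 16 =
      (F % 16 + G % 16) % n by omega,
      show ((F % 16 + G % 16) % n + 16 * fadd n M (F / 16) (G / 16)) / 16 =
      fadd n M (F / 16) (G / 16) by omega, e, pow_mod_eq (hp 0), pow_add]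
    have hcom := Subgroup.mem_center_iff.1 (pow_mem (hc 0) (G % 16))
      (ev M (fun j => ν (j + 1)) (F / 16))
    rw [mul_assoc (ν 0 ^ (F % 16)), ← mul_assoc (ν 0 ^ (G % 16)), ← hcom]
    simp only [mul_assoc]

theorem ev_fscale (hn0 : 0 < n) (hn : n ≤ 16) (c : ℕ) : ∀ M (ν : ℕ → Γ),
    (∀ j, ν j ∈ Subgroup.center Γ) → (∀ j, ν j ^ n = 1) → ∀ F,
    ev M ν (fscale n c M F) = ev M ν F ^ c
  | 0, _, _, _, _ => (one_pow c).symm
  | M + 1, ν, hc, hp, F => by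
    have hd : (c * (F % 16)) % n < 16 := lt_of_lt_of_le (Nat.mod_lt _ hn0) hn
    simp only [ev, fscale]
    rw [show ((c * (F % 16)) % n + 16 * fscale n c M (F / 16)) % 16 = (c * (F % 16)) % n by omega,
      show ((c * (F % 16)) % n + 16 * fscale n c M (F / 16)) / 16 = fscale n c M (F / 16) by omega,
      ev_fscale hn0 hn c M _ (fun j => hc (j + 1)) (fun j => hp (j + 1)), pow_mod_eq (hp 0),
      mul_comm c, pow_mul]
    have hcomm : Commute (ν 0 ^ (F % 16)) (ev M (fun j => ν (j + 1)) (F / 16)) :=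
      (Subgroup.mem_center_iff.1 (pow_mem (hc 0) _) _).symm
    exact (hcomm.mul_pow c).symm

theorem ev_fvar : ∀ M (ν : ℕ → Γ) j, j < M → ev M ν (fvar j) = ν j
  | 0, _, _, h => absurd h (Nat.not_lt_zero _)
  | M + 1, ν, 0, _ => by simp [ev, fvar, ev_zero]
  | M + 1, ν, j + 1, h => by
    simp only [ev, fvar, pow_succ]
    rw [show 16 ^ j * 16 % 16 = 0 by omega, show 16 ^ j * 16 / 16 = 16 ^ j by omega, pow_zero, one_mul]
    exact ev_fvar M _ j (by omega)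

theorem ev_fsum (hn0 : 0 < n) (hn : n ≤ 16) {M : ℕ} {ν : ℕ → Γ}
    (hc : ∀ j, ν j ∈ Subgroup.center Γ) (hp : ∀ j, ν j ^ n = 1) :
    ∀ l : List ℕ, ev M ν (fsum n M l) = (l.map (ev M ν)).prod
  | [] => ev_zero M ν
  | F :: l => by rw [fsum, ev_fadd hn0 hn M ν hc hp, ev_fsum hn0 hn hc hp l, List.map_cons, List.prod_cons]

theorem ev_pow_eq_one (hn0 : 0 < n) : ∀ M (ν : ℕ → Γ), (∀ j, ν j ∈ Subgroup.center Γ) →
    (∀ j, ν j ^ n = 1) → ∀ F, ev M ν F ^ n = 1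
  | 0, _, _, _, _ => one_pow n
  | M + 1, ν, hc, hp, F => by
    simp only [ev]
    have hcomm : Commute (ν 0 ^ (F % 16)) (ev M (fun j => ν (j + 1)) (F / 16)) :=
      (Subgroup.mem_center_iff.1 (pow_mem (hc 0) _) _).symm
    rw [hcomm.mul_pow,
      ev_pow_eq_one hn0 M _ (fun j => hc (j + 1)) (fun j => hp (j + 1)), mul_one, ← pow_mul,
      mul_comm, pow_mul, hp 0, one_pow]

theorem ev_fsub (hn0 : 0 < n) (hn : n ≤ 16) {M : ℕ} {ν : ℕ → Γ}
    (hc : ∀ j, ν j ∈ Subgroup.center Γ) (hp : ∀ j, ν j ^ n = 1) (F G : ℕ) :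
    ev M ν (fsub n M F G) = ev M ν F * (ev M ν G)⁻¹ := by
  rw [fsub, ev_fadd hn0 hn M ν hc hp, ev_fscale hn0 hn _ M ν hc hp]
  congr 1
  refine eq_inv_of_mul_eq_one_left ?_
  rw [← pow_succ, show n - 1 + 1 = n by omega, ev_pow_eq_one hn0 M ν hc hp]

end Cfsg.Agent.StemCert
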