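import Cfsg.Agent.Lib.StemCert.G2ThreeCheck
import Cfsg.Agent.Lib.StemCert.G2ThreeTwoData

/-! Kernel check of the certificate at 2. -/

set_option autoImplicit false
set_option maxRecDepth 20000

namespace Cfsg.Agent.StemCert.G2Three

theorem check2 : cert2.shapeOk = true ∧ cert2.tabOk = true ∧ cert2.linOk = true ∧
    groupOk cert2 gens2 conj2 = true ∧ cert2.c = 0 ∧ cert2.N = 64 ∧ cert2.n = 2 := by
  decide +kernel

/-- The code of a normal form. -/
def f2 (e : ℕ) : ℕ := (forms2.map key).getD e 0

theorem forms2_ok : ((List.range 64).all fun e => Nat.beq (key (gC gens2 (cert2.lets e))) (f2 e)) = true ∧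
    (forms2.map key).Nodup ∧ (forms2.map key).length = 64 := by
  decide +kernel

theorem hform2 : ∀ e < cert2.N, key (gC gens2 (cert2.lets e)) = f2 e := fun e he =>
  Nat.eq_of_beq_eq_true (List.all_eq_true.1 forms2_ok.1 e (List.mem_range.2 he))

theorem inj2 : ∀ e < cert2.N, ∀ e' < cert2.N, f2 e = f2 e' → e = e' := by
  intro e he e' he' h
  have hl := forms2_ok.2.2
  have hN : cert2.N = 64 := check2.2.2.2.2.2.1
  rw [f2, f2, List.getD_eq_getElem _ _ (by omega), List.getD_eq_getElem _ _ (by omega)] at h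
  exact (forms2_ok.2.1.getElem_inj_iff).1 h

end Cfsg.Agent.StemCert.G2Three
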