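import Cfsg.Agent.Lib.StemCert.G2ThreeCheck
import Cfsg.Agent.Lib.StemCert.G2ThreeData
import Cfsg.Agent.Lib.StemCert.G2ThreeKeys

/-! Kernel check of the certificate at 3, in parts. -/

set_option autoImplicit false
set_option maxRecDepth 20000
set_option Elab.async false

namespace Cfsg.Agent.StemCert.G2Three

theorem check3 : cert3.shapeOk = true ∧ cert3.linOk = true ∧
    groupOk cert3 gens3 conj3 = true ∧ cert3.boundOk 3 = true ∧ cert3.N = 729 ∧ cert3.n = 9 := by
  decide +kernel

/-- A part of the table. -/
def tabPart (i k : ℕ) : Bool := (List.range 243).all fun e => cert3.stepOk i (243 * k + e)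

theorem tab3_0_0 : tabPart 0 0 = true := by decide +kernel
theorem tab3_0_1 : tabPart 0 1 = true := by decide +kernel
theorem tab3_0_2 : tabPart 0 2 = true := by decide +kernel
theorem tab3_1_0 : tabPart 1 0 = true := by decide +kernel
theorem tab3_1_1 : tabPart 1 1 = true := by decide +kernel
theorem tab3_1_2 : tabPart 1 2 = true := by decide +kernel
theorem tab3_2_0 : tabPart 2 0 = true := by decide +kernel
theorem tab3_2_1 : tabPart 2 1 = true := by decide +kernel
theorem tab3_2_2 : tabPart 2 2 = true := by decide +kernel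
theorem tab3_3_0 : tabPart 3 0 = true := by decide +kernel
theorem tab3_3_1 : tabPart 3 1 = true := by decide +kernel
theorem tab3_3_2 : tabPart 3 2 = true := by decide +kernel
theorem tab3_4_0 : tabPart 4 0 = true := by decide +kernel
theorem tab3_4_1 : tabPart 4 1 = true := by decide +kernel
theorem tab3_4_2 : tabPart 4 2 = true := by decide +kernel
theorem tab3_5_0 : tabPart 5 0 = true := by decide +kernel
theorem tab3_5_1 : tabPart 5 1 = true := by decide +kernel
theorem tab3_5_2 : tabPart 5 2 = true := by decide +kernel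

theorem tab3 : cert3.tabOk = true := by
  simp only [Cert.tabOk, List.all_eq_true, List.mem_range]
  intro i hi e he
  have hN : cert3.N = 729 := check3.2.2.2.2.1
  have hi' : i < 6 := hi
  have hk : ∀ i k, tabPart i k = true → ∀ e < 243, cert3.stepOk i (243 * k + e) = true :=
    fun i k h e he => List.all_eq_true.1 h e (List.mem_range.2 he)
  obtain ⟨k, r, hk3, hr, rfl⟩ : ∃ k r, k < 3 ∧ r < 243 ∧ e = 243 * k + r :=
    ⟨e / 243, e % 243, by omega, by omega, by omega⟩
  interval_cases i <;> interval_cases k
  exact hk _ _ tab3_0_0 r hr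
  exact hk _ _ tab3_0_1 r hr
  exact hk _ _ tab3_0_2 r hr
  exact hk _ _ tab3_1_0 r hr
  exact hk _ _ tab3_1_1 r hr
  exact hk _ _ tab3_1_2 r hr
  exact hk _ _ tab3_2_0 r hr
  exact hk _ _ tab3_2_1 r hr
  exact hk _ _ tab3_2_2 r hr
  exact hk _ _ tab3_3_0 r hr
  exact hk _ _ tab3_3_1 r hr
  exact hk _ _ tab3_3_2 r hr
  exact hk _ _ tab3_4_0 r hr
  exact hk _ _ tab3_4_1 r hr
  exact hk _ _ tab3_4_2 r hr
  exact hk _ _ tab3_5_0 r hr
  exact hk _ _ tab3_5_1 r hr
  exact hk _ _ tab3_5_2 r hr

/-- The code of a normal form. -/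
def f3 (e : ℕ) : ℕ := look keys3 245 (look pos3 10 e)

/-- A part of the normal forms. -/
def formPart (k : ℕ) : Bool :=
  (List.range 81).all fun e =>
    Nat.beq (key (gC gens3 (cert3.lets (81 * k + e)))) (f3 (81 * k + e))

theorem form3_0 : formPart 0 = true := by decide +kernel
theorem form3_1 : formPart 1 = true := by decide +kernel
theorem form3_2 : formPart 2 = true := by decide +kernel
theorem form3_3 : formPart 3 = true := by decide +kernel
theorem form3_4 : formPart 4 = true := by decide +kernel
theorem form3_5 : formPart 5 = true := by decide +kernel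
theorem form3_6 : formPart 6 = true := by decide +kernel
theorem form3_7 : formPart 7 = true := by decide +kernel
theorem form3_8 : formPart 8 = true := by decide +kernel

theorem hform3 : ∀ e < cert3.N, key (gC gens3 (cert3.lets e)) = f3 e := by
  intro e he
  rw [check3.2.2.2.2.1] at he
  have hk : ∀ k, formPart k = true → ∀ e < 81,
      key (gC gens3 (cert3.lets (81 * k + e))) = f3 (81 * k + e) :=
    fun k h e he => Nat.eq_of_beq_eq_true (List.all_eq_true.1 h e (List.mem_range.2 he))
  obtain ⟨k, r, hk9, hr, rfl⟩ : ∃ k r, k < 9 ∧ r < 81 ∧ e = 81 * k + r :=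
    ⟨e / 81, e % 81, by omega, by omega, by omega⟩
  interval_cases k
  exact hk _ form3_0 r hr
  exact hk _ form3_1 r hr
  exact hk _ form3_2 r hr
  exact hk _ form3_3 r hr
  exact hk _ form3_4 r hr
  exact hk _ form3_5 r hr
  exact hk _ form3_6 r hr
  exact hk _ form3_7 r hr
  exact hk _ form3_8 r hr

theorem keys3_ok : ((List.range 728).all fun i => Nat.blt (look keys3 245 i) (look keys3 245 (i + 1))) = true ∧
    ((List.range 729).all fun e => Nat.blt (look pos3 10 e) 729 &&
      Nat.beq (look srt3 10 (look pos3 10 e)) e) = true := by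
  decide +kernel

theorem inj3 : ∀ e < cert3.N, ∀ e' < cert3.N, f3 e = f3 e' → e = e' := by
  intro e he e' he' h
  rw [check3.2.2.2.2.1] at he he'
  obtain ⟨h1, h2⟩ := keys3_ok
  simp only [List.all_eq_true, List.mem_range, Bool.and_eq_true, Nat.blt_eq] at h1 h2
  obtain ⟨l1, i1⟩ := h2 e he
  obtain ⟨l2, i2⟩ := h2 e' he'
  have hmono : ∀ j, j < 729 → ∀ i < j, look keys3 245 i < look keys3 245 j := by
    intro j
    induction j with
    | zero => intro _ i hi; omega
    | succ j ih =>
      intro hj i hi
      have := h1 j (by omega)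
      rcases Nat.lt_succ_iff_lt_or_eq.1 hi with hi' | rfl
      · exact lt_trans (ih (by omega) i hi') this
      · exact this
  have hpos : look pos3 10 e = look pos3 10 e' := by
    rcases lt_trichotomy (look pos3 10 e) (look pos3 10 e') with hl | hl | hl
    · exact absurd h (ne_of_lt (hmono _ l2 _ hl))
    · exact hl
    · exact absurd h.symm (ne_of_lt (hmono _ l1 _ hl))
  rw [← Nat.eq_of_beq_eq_true i1, hpos, Nat.eq_of_beq_eq_true i2]

end Cfsg.Agent.StemCert.G2Three
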