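import Cfsg.Agent.Lib.StemCert.Bound
import Cfsg.Agent.Lib.StemCert.G2ThreeCheck2
import Cfsg.Agent.Lib.StemCert.G2ThreeCheck3
import Cfsg.Agent.Lib.SchurSplit.SmallMain
import Cfsg.Prelude.Def_KGroupFacts

/-!
The bound for stem extensions of `G₂(3)`: the kernel has order one or three.
-/

set_option autoImplicit false

namespace Cfsg.Agent.StemCert.G2Three

open Cfsg.Lie Cfsg.Agent.G2Three

universe u

variable {K : Type u} [Field K] [Fintype K] (hK : Fintype.card K = 3)

/-- The element of a word in root letters. -/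
noncomputable def wEl (K : Type u) [Field K] [Fintype K] : List ℕ → ↥(chevG2.group K)
  | [] => 1
  | r :: w => xr (Fin.ofNat 12 r) * wEl K w

include hK in
theorem wEl_code : ∀ w : List ℕ, wOk w = true → code (rep hK (wEl K w)) = wC w
  | [], _ => by rw [wEl, map_one, code_one]; rfl
  | r :: w, h => by
    simp only [wOk, List.all_cons, Bool.and_eq_true, Nat.blt_eq] at h
    rw [wEl, map_mul, rep_xr, ← mmul_code, wEl_code w h.2, wC, ← roots_eq]
    congr 2
    simp [Nat.mod_eq_of_lt h.1]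

include hK in
theorem eq_of_code {x y : ↥(chevG2.group K)} (h : code (rep hK x) = code (rep hK y)) : x = y :=
  rep_injective hK (code_injective h)

include hK in
theorem gEl_code (gl : List (List ℕ)) (hgl : ∀ w ∈ gl, wOk w = true) : ∀ w : List ℕ,
    code (rep hK ((w.map fun i => wEl K (gl.getD i [])).prod)) = gC gl w
  | [] => by rw [List.map_nil, List.prod_nil, map_one, code_one]; rfl
  | i :: w => by
    have hi : wOk (gl.getD i []) = true := by
      by_cases hi : i < gl.length
      · rw [List.getD_eq_getElem _ _ hi]; exact hgl _ (List.getElem_mem _)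
      · rw [List.getD_eq_default _ _ (not_lt.1 hi)]; rfl
    rw [List.map_cons, List.prod_cons, map_mul, ← mmul_code, wEl_code hK _ hi, gEl_code gl hgl w, gC]

include hK in
/-- The bound from a certificate. -/
theorem cert_bound (C : Cert) (gl cl : List (List ℕ)) (f : ℕ → ℕ)
    (hshape : C.shapeOk = true) (htab : C.tabOk = true) (hlin : C.linOk = true)
    (hg : groupOk C gl cl = true) (hform : ∀ e < C.N, key (gC gl (C.lets e)) = f e)
    (hf : ∀ e < C.N, ∀ e' < C.N, f e = f e' → e = e') (hco : Nat.Coprime C.n (4245696 / C.N))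
    {Γ : Type u} [Group Γ] [Finite Γ] (π : Γ →* ↥(chevG2.group K)) (hπ : Function.Surjective π)
    (hc : π.ker ≤ Subgroup.center Γ) (hd : π.ker ≤ commutator Γ) (hexp : ∀ z ∈ π.ker, z ^ C.n = 1) :
    ∃ cv : Γ, π.ker ≤ Subgroup.zpowers cv ∧ (C.c = 0 → cv = 1) ∧
      (∀ k, C.boundOk k = true → cv ^ k = 1) := by
  simp only [groupOk, Bool.and_eq_true, List.all_eq_true, Nat.blt_eq] at hg
  obtain ⟨⟨⟨⟨hgl, hcl⟩, -⟩, hslot⟩, hrel⟩ := hg
  let g : ℕ → ↥(chevG2.group K) := fun i => wEl K (gl.getD i [])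
  let γ : ℕ → ↥(chevG2.group K) := fun i => wEl K (cl.getD i [])
  refine ker_le_of_cert C hshape htab hlin g γ ?_ ?_ ?_ ?_ π hπ hc hd hexp
  · intro r hr
    refine eq_of_code hK ?_
    rw [gEl_code hK gl hgl, gEl_code hK gl hgl]
    refine eq_of_ceq (hrel _ ?_)
    rw [Cert.rel, List.getD_eq_getElem _ _ hr]; exact List.getElem_mem _
  · intro s hs
    have hm : C.slot s ∈ C.slots := by
      rw [Cert.slot, List.getD_eq_getElem _ _ hs]; exact List.getElem_mem _
    obtain ⟨hlt, hpe⟩ := hslot _ hm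
    have hw : wOk (cl.getD (C.slot s).1 []) = true := by
      rw [List.getD_eq_getElem _ _ hlt]; exact hcl _ (List.getElem_mem _)
    refine eq_of_code hK ?_
    simp only [map_mul, γ, g, Cert.sP, ← mmul_code, wEl_code hK _ hw, gEl_code hK gl hgl]
    exact eq_of_ceq hpe
  · intro e he e' he' hee
    refine hf e he e' he' ?_
    rw [← hform e he, ← hform e' he', ← gEl_code hK gl hgl, ← gEl_code hK gl hgl]
    exact congrArg (fun x => key (code (rep hK x))) hee
  · intro H hH
    have h := Subgroup.card_mul_index H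
    rw [hH, card_group hK] at h
    rw [show (4245696 : ℕ) = 2 ^ 6 * 3 ^ 6 * 7 * 13 by norm_num, ← h,
      Nat.mul_div_cancel_left _ (hH ▸ Nat.card_pos)] at hco
    exact hco

include hK in
theorem noKer_other : ∀ p, p.Prime → p ≠ 3 → NoKer ↥(chevG2.group K) p := by
  intro p hp hp3 E _ _ π hπ hc hd hcard
  by_cases hsq : p ^ 2 ∣ Nat.card ↥(chevG2.group K)
  swap
  · exact SchurSplit.noExt_of_sq_not_dvd hp hsq E π hπ hc hcard hd
  have hexp : ∀ z ∈ π.ker, z ^ p = 1 := fun z hz => by
    have h := pow_card_eq_one' (x := (⟨z, hz⟩ : π.ker))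
    rw [hcard] at h
    simpa [Subtype.ext_iff] using h
  obtain rfl : p = 2 := by
    rw [card_group hK] at hsq
    have hdvd : p ∣ 2 ^ 6 * 3 ^ 6 * 7 * 13 := (dvd_pow_self p two_ne_zero).trans hsq
    rcases hp.dvd_mul.1 hdvd with h | h
    · rcases hp.dvd_mul.1 h with h | h
      · rcases hp.dvd_mul.1 h with h | h
        · exact (Nat.prime_dvd_prime_iff_eq hp Nat.prime_two).1 (hp.dvd_of_dvd_pow h)
        · exact absurd ((Nat.prime_dvd_prime_iff_eq hp Nat.prime_three).1 (hp.dvd_of_dvd_pow h)) hp3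
      · rw [(Nat.prime_dvd_prime_iff_eq hp (by norm_num)).1 h] at hsq
        norm_num at hsq
    · rw [(Nat.prime_dvd_prime_iff_eq hp (by norm_num)).1 h] at hsq
      norm_num at hsq
  obtain ⟨h1, h2, h3, h4, h5, hN, hn⟩ := check2
  obtain ⟨cv, hle, h0, -⟩ := cert_bound hK cert2 gens2 conj2 f2 h1 h2 h3 h4 hform2 inj2
    (by rw [hn, hN]; decide +kernel) π hπ hc hd (by rw [hn]; exact hexp)
  rw [h0 h5, Subgroup.zpowers_one_eq_bot, le_bot_iff] at hle
  rw [hle, Subgroup.card_bot] at hcard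
  omega

include hK in
theorem noKer_nine : NoKer ↥(chevG2.group K) (3 ^ 2) := by
  intro E _ _ π hπ hc hd hcard
  have hexp : ∀ z ∈ π.ker, z ^ 9 = 1 := fun z hz => by
    have h := pow_card_eq_one' (x := (⟨z, hz⟩ : π.ker))
    rw [hcard] at h
    simpa [Subtype.ext_iff] using h
  obtain ⟨h1, h3, h4, h5, hN, hn⟩ := check3
  obtain ⟨cv, hle, -, h0⟩ := cert_bound hK cert3 gens3 conj3 f3 h1 tab3 h3 h4 hform3 inj3
    (by rw [hn, hN]; decide +kernel) π hπ hc hd (by rw [hn]; exact hexp)
  have hcard2 := Subgroup.card_le_of_le hle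
  rw [Nat.card_zpowers, hcard] at hcard2
  have := orderOf_le_of_pow_eq_one (by norm_num) (h0 3 h5)
  omega

include hK in
/-- Stem kernels of `G₂(3)` have order one or three. -/
theorem card_ker {Γ : Type u} [Group Γ] [Finite Γ] (π : Γ →* ↥(chevG2.group K))
    (hπ : Function.Surjective π) (hc : π.ker ≤ Subgroup.center Γ) (hd : π.ker ≤ commutator Γ) :
    Nat.card π.ker = 1 ∨ Nat.card π.ker = 3 :=
  card_ker_le_prime Nat.prime_three (noKer_other hK) (noKer_nine hK) π hπ hc hd

end Cfsg.Agent.StemCert.G2Three
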