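import Cfsg.Agent.Lib.StemCert.G2ThreeCode
import Cfsg.Agent.Lib.StemCert.Cert

/-!
Checkers in the group generated by the root matrices of `G₂(3)`.
-/

set_option autoImplicit false

namespace Cfsg.Agent.StemCert.G2Three

/-- The root codes. -/
def roots : List (List ℕ) := [[1048577, 67108896, 1024, 32768, 1048576, 33554432, 1073741824],
    [32769, 32, 67109888, 32768, 1048576, 33554432, 1073741824],
    [1140850689, 32800, 2098176, 32768, 1048576, 33554432, 1107296256],
    [1025, 2149580832, 1024, 67141632, 1048576, 33554432, 1075838976],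
    [65, 32, 2147550208, 32768, 34603008, 33554432, 1073807360],
    [1, 2080, 1024, 1081344, 1048576, 33554432, 1073741824],
    [1, 32, 1088, 32768, 1081344, 33554432, 1073741824],
    [1, 34, 1024, 1073776640, 1048576, 34603008, 1073742848],
    [1, 32, 1025, 32768, 1074790464, 33619968, 1073741856],
    [1, 32, 1024, 32800, 1050624, 2181038082, 1073741826],
    [1, 32, 1024, 32769, 1048576, 33556480, 1073741824],
    [1, 32, 1024, 32768, 1048577, 33554496, 1073741824]]

theorem roots_eq : ∀ r : Fin 12, roots.getD r.val idC = code (Cfsg.Agent.G2Three.root r) := by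
  decide +kernel

/-- The code of a word in root elements. -/
def wC : List ℕ → List ℕ
  | [] => idC
  | r :: w => mmul (roots.getD r idC) (wC w)

/-- The letters are roots. -/
def wOk (w : List ℕ) : Bool := w.all fun r => Nat.blt r 12

/-- The product of a word in a list of words. -/
def gC (gl : List (List ℕ)) : List ℕ → List ℕ
  | [] => idC
  | i :: w => mmul (wC (gl.getD i [])) (gC gl w)

/-- One number for a code. -/
def key : List ℕ → ℕ
  | [] => 0
  | a :: l => a + 34359738368 * key l

/-- An entry of a packed table. -/
def look (T : List ℕ) (w e : ℕ) : ℕ := (T.getD (e / 64) 0 >>> (w * (e % 64))) % 2 ^ w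

/-- The identities in the group. -/
def groupOk (C : Cert) (gl cl : List (List ℕ)) : Bool :=
  gl.all wOk && cl.all wOk && Nat.beq gl.length C.m &&
  C.slots.all (fun s => Nat.blt s.1 cl.length &&
    ceq (mmul (wC (cl.getD s.1 [])) (gC gl (C.lets s.2.1)))
      (mmul (gC gl (C.lets s.2.2)) (wC (cl.getD s.1 [])))) &&
  C.rels.all (fun r => ceq (gC gl r.1) (gC gl r.2))

end Cfsg.Agent.StemCert.G2Three
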