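import Cfsg.Agent.Lib.StemCert.G2ThreeCoverData
import Mathlib.Data.ZMod.Basic
import Mathlib.Tactic.NormNum
import Mathlib.Tactic.IntervalCases

/-!
The central extension of a Sylow 3-subgroup of `G₂(3)` given by a collection table, and the
action of the torus on it.
-/

set_option autoImplicit false
set_option maxRecDepth 20000

namespace Cfsg.Agent.StemCert.G2Three.Cover

/-- An entry of a packed table. -/
def look (T : List ℕ) (w e : ℕ) : ℕ := (T.getD (e / 64) 0 >>> (w * (e % 64))) % 2 ^ w

/-- The letters of a normal form. -/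
def lts (e : ℕ) : List ℕ := (List.range 6).flatMap fun i => List.replicate (e / 3 ^ i % 3) i

/-- The generator of a root. -/
def rt (i : ℕ) : ℕ := i + 6

/-- An element of the extension is coded by `729 z + e`; right multiplication by a generator. -/
def stp (x i : ℕ) : ℕ :=
  let v := look (stepT.getD i []) 12 (x % 729)
  (x / 729 + v / 729) % 3 * 729 + v % 729

/-- Left multiplication by a generator. -/
def lef (k x : ℕ) : ℕ :=
  let v := look (leftT.getD k []) 12 (x % 729)
  (x / 729 + v / 729) % 3 * 729 + v % 729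

/-- Right multiplication by a word. -/
def run (w : List ℕ) (x : ℕ) : ℕ := w.foldl stp x

/-- The action of the torus. -/
def sig (j e : ℕ) : ℕ := if j = 0 then e else look (sigT.getD j []) 10 e

/-- Left commutes with right. -/
def comOk : Bool :=
  (List.range 6).all fun k => (List.range 6).all fun i => (List.range 729).all fun e =>
    Nat.beq (lef k (stp e i)) (stp (lef k e) i)

/-- Normal forms from both sides. -/
def nfOk : Bool :=
  (List.range 729).all fun e =>
    Nat.beq (run (lts e) 0) e && Nat.beq ((lts e).foldr lef 0) e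

/-- The torus respects the table. -/
def sigOk : Bool :=
  (List.range 4).all fun j => (List.range 729).all fun e =>
    Nat.blt (sig j e) 729 && (List.range 6).all fun i =>
      Nat.beq (run (lts (sig j (3 ^ i))) (sig j e))
        (stp e i / 729 * 729 + sig j (stp e i % 729))

/-- The torus is a group. -/
def sigMulOk : Bool :=
  Nat.beq (sig 1 0) 0 && Nat.beq (sig 2 0) 0 && Nat.beq (sig 3 0) 0 &&
  (List.range 4).all fun i => (List.range 4).all fun j => (List.range 729).all fun e =>
    Nat.beq (sig i (sig j e)) (sig (i ^^^ j) e)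

theorem com_ok : comOk = true := by decide +kernel
theorem nf_ok : nfOk = true := by decide +kernel
theorem sig_ok : sigOk = true := by decide +kernel
theorem sigMul_ok : sigMulOk = true := by decide +kernel

theorem stp_lt (x i : ℕ) : stp x i < 2187 := by
  unfold stp
  dsimp only
  omega

theorem lef_lt (k x : ℕ) : lef k x < 2187 := by
  unfold lef
  dsimp only
  omega

/-- The central shift. -/
def shift (z x : ℕ) : ℕ := (x / 729 + z) % 3 * 729 + x % 729

theorem stp_shift (z x i : ℕ) : stp (shift z x) i = shift z (stp x i) := by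
  unfold stp shift
  have h1 : ((x / 729 + z) % 3 * 729 + x % 729) % 729 = x % 729 := by omega
  dsimp only
  rw [h1]
  omega

theorem lef_shift (k z x : ℕ) : lef k (shift z x) = shift z (lef k x) := by
  unfold lef shift
  have h1 : ((x / 729 + z) % 3 * 729 + x % 729) % 729 = x % 729 := by omega
  dsimp only
  rw [h1]
  omega

theorem eq_shift {x : ℕ} (hx : x < 2187) : x = shift (x / 729) (x % 729) := by
  unfold shift
  omega

theorem run_lt : ∀ (w : List ℕ) {x : ℕ}, x < 2187 → run w x < 2187
  | [], _, h => h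
  | i :: w, x, _ => run_lt w (stp_lt x i)

theorem run_append (u v : List ℕ) (x : ℕ) : run (u ++ v) x = run v (run u x) :=
  List.foldl_append

theorem run_shift : ∀ (w : List ℕ) (z x : ℕ), run w (shift z x) = shift z (run w x)
  | [], _, _ => rfl
  | i :: w, z, x => by
    show run w (stp (shift z x) i) = shift z (run w (stp x i))
    rw [stp_shift, run_shift w]

theorem lts_lt {e i : ℕ} (h : i ∈ lts e) : i < 6 := by
  simp only [lts, List.mem_flatMap, List.mem_replicate, List.mem_range] at h
  obtain ⟨j, hj, -, rfl⟩ := h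
  exact hj

theorem lef_stp {k i x : ℕ} (hk : k < 6) (hi : i < 6) (hx : x < 2187) :
    lef k (stp x i) = stp (lef k x) i := by
  have h := com_ok
  simp only [comOk, List.all_eq_true, List.mem_range] at h
  have h' := Nat.eq_of_beq_eq_true (h k hk i hi (x % 729) (Nat.mod_lt _ (by norm_num)))
  rw [eq_shift hx, stp_shift, lef_shift, lef_shift, stp_shift, h']

theorem lef_run {k : ℕ} (hk : k < 6) : ∀ {w : List ℕ}, (∀ i ∈ w, i < 6) → ∀ {x : ℕ}, x < 2187 →
    lef k (run w x) = run w (lef k x)
  | [], _, _, _ => rfl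
  | i :: w, hw, x, hx => by
    show lef k (run w (stp x i)) = run w (stp (lef k x) i)
    rw [lef_run hk (fun j hj => hw j (List.mem_cons_of_mem _ hj)) (stp_lt x i),
      lef_stp hk (hw i List.mem_cons_self) hx]

theorem nf {e : ℕ} (he : e < 729) : run (lts e) 0 = e ∧ (lts e).foldr lef 0 = e := by
  have h := nf_ok
  simp only [nfOk, List.all_eq_true, List.mem_range, Bool.and_eq_true] at h
  exact ⟨Nat.eq_of_beq_eq_true (h e he).1, Nat.eq_of_beq_eq_true (h e he).2⟩

theorem run_foldr {w : List ℕ} (hw : ∀ i ∈ w, i < 6) : ∀ {v : List ℕ}, (∀ i ∈ v, i < 6) →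
    run w (v.foldr lef 0) = v.foldr lef (run w 0)
  | [], _ => rfl
  | k :: v, hv => by
    have hlt : v.foldr lef 0 < 2187 := by
      cases v with
      | nil => simp
      | cons j v => exact lef_lt _ _
    rw [List.foldr_cons, List.foldr_cons, ← lef_run (hv k List.mem_cons_self) hw hlt,
      run_foldr hw fun i hi => hv i (List.mem_cons_of_mem _ hi)]

/-- Two words are equal as soon as they are equal at the origin. -/
theorem run_ext {w w' : List ℕ} (hw : ∀ i ∈ w, i < 6) (hw' : ∀ i ∈ w', i < 6) {z : ℕ}
    (h : run w 0 = shift z (run w' 0)) {x : ℕ} (hx : x < 2187) : run w x = shift z (run w' x) := by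
  obtain ⟨-, h2⟩ := nf (Nat.mod_lt x (show 729 > 0 by norm_num))
  rw [eq_shift hx, run_shift, run_shift, ← h2, run_foldr hw fun i => lts_lt,
    run_foldr hw' fun i => lts_lt, h]
  have key : ∀ (v : List ℕ) y, v.foldr lef (shift z y) = shift z (v.foldr lef y) := by
    intro v y
    induction v with
    | nil => rfl
    | cons k v ih => rw [List.foldr_cons, List.foldr_cons, ih, lef_shift]
  rw [key]
  generalize (lts (x % 729)).foldr lef (run w' 0) = y
  unfold shift
  omega

/-- The value of the cocycle, as a number. -/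
def phiN (a b : ℕ) : ℕ := run (lts b) a / 729

/-- The cocycle. -/
def phi (a b : ℕ) : ZMod 3 := (phiN a b : ℕ)

/-- The product of normal forms. -/
def mu (a b : ℕ) : ℕ := run (lts b) a % 729

theorem mu_lt (a b : ℕ) : mu a b < 729 := Nat.mod_lt _ (by norm_num)

theorem run_lts {a b : ℕ} (ha : a < 729) : run (lts b) a = shift (phiN a b) (mu a b) :=
  eq_shift (run_lt _ (by omega))

theorem run_mu {b c : ℕ} (hb : b < 729) {x : ℕ} (hx : x < 2187) :
    run (lts c) (run (lts b) x) = shift (phiN b c) (run (lts (mu b c)) x) := by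
  rw [← run_append]
  refine run_ext (fun i hi => ?_) (fun i => lts_lt) ?_ hx
  · rcases List.mem_append.1 hi with h | h <;> exact lts_lt h
  · rw [run_append, (nf hb).1, (nf (mu_lt b c)).1, run_lts hb]

/-- The cocycle identity, and associativity of the product. -/
theorem phi_cocycle {a b c : ℕ} (ha : a < 729) (hb : b < 729) :
    phi a b + phi (mu a b) c = phi b c + phi a (mu b c) ∧ mu (mu a b) c = mu a (mu b c) := by
  have h := run_mu (c := c) hb (x := a) (by omega)
  rw [run_lts ha, run_shift, run_lts (mu_lt a b), run_lts ha] at h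
  have l1 := mu_lt (mu a b) c
  have l2 := mu_lt a (mu b c)
  generalize mu (mu a b) c = p at h l1 ⊢
  generalize mu a (mu b c) = q at h l2 ⊢
  have hpq : p = q ∧ (phiN (mu a b) c + phiN a b) % 3 = (phiN a (mu b c) + phiN b c) % 3 := by
    unfold shift at h
    omega
  refine ⟨?_, hpq.1⟩
  simp only [phi]
  rw [← Nat.cast_add, ← Nat.cast_add, ZMod.natCast_eq_natCast_iff', add_comm (phiN a b),
    add_comm (phiN b c)]
  exact hpq.2

theorem lts_zero : lts 0 = [] := by decide

theorem phi_zero_right {a : ℕ} (ha : a < 729) : phi a 0 = 0 ∧ mu a 0 = a := by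
  simp only [phi, phiN, mu, lts_zero, run, List.foldl_nil]
  exact ⟨by rw [Nat.div_eq_of_lt ha]; rfl, Nat.mod_eq_of_lt ha⟩

theorem phi_zero_left {b : ℕ} (hb : b < 729) : phi 0 b = 0 ∧ mu 0 b = b := by
  simp only [phi, phiN, mu, (nf hb).1]
  exact ⟨by rw [Nat.div_eq_of_lt hb]; rfl, Nat.mod_eq_of_lt hb⟩

theorem sig_lt {j e : ℕ} (hj : j < 4) (he : e < 729) : sig j e < 729 := by
  have h := sig_ok
  simp only [sigOk, List.all_eq_true, List.mem_range, Bool.and_eq_true, Nat.blt_eq] at h
  exact (h j hj e he).1

theorem sig_zero_left (e : ℕ) : sig 0 e = e := rfl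

theorem sig_zero {j : ℕ} (hj : j < 4) : sig j 0 = 0 := by
  have h := sigMul_ok
  simp only [sigMulOk, Bool.and_eq_true] at h
  interval_cases j
  exacts [rfl, Nat.eq_of_beq_eq_true h.1.1.1, Nat.eq_of_beq_eq_true h.1.1.2,
    Nat.eq_of_beq_eq_true h.1.2]

theorem sig_sig {i j e : ℕ} (hi : i < 4) (hj : j < 4) (he : e < 729) :
    sig i (sig j e) = sig (i ^^^ j) e := by
  have h := sigMul_ok
  simp only [sigMulOk, Bool.and_eq_true, List.all_eq_true, List.mem_range] at h
  exact Nat.eq_of_beq_eq_true (h.2 i hi j hj e he)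

theorem sig_step {j : ℕ} (hj : j < 4) {i : ℕ} (hi : i < 6) {x : ℕ} (hx : x < 2187) :
    run (lts (sig j (3 ^ i))) (shift (x / 729) (sig j (x % 729))) =
      shift (stp x i / 729) (sig j (stp x i % 729)) := by
  have h := sig_ok
  simp only [sigOk, List.all_eq_true, List.mem_range, Bool.and_eq_true] at h
  have h' := Nat.eq_of_beq_eq_true ((h j hj (x % 729) (Nat.mod_lt _ (by norm_num))).2 i hi)
  have hs := sig_lt hj (Nat.mod_lt (stp (x % 729) i) (show 729 > 0 by norm_num))
  have e : stp x i = shift (x / 729) (stp (x % 729) i) := by rw [← stp_shift, ← eq_shift hx]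
  have hl := stp_lt (x % 729) i
  rw [run_shift, h', e]
  generalize stp (x % 729) i = y at hs hl ⊢
  have e2 : shift (x / 729) y % 729 = y % 729 := by unfold shift; omega
  rw [e2]
  generalize sig j (y % 729) = s at hs ⊢
  unfold shift
  omega

theorem sig_run {j : ℕ} (hj : j < 4) : ∀ {w : List ℕ}, (∀ i ∈ w, i < 6) → ∀ {x : ℕ}, x < 2187 →
    run (w.flatMap fun i => lts (sig j (3 ^ i))) (shift (x / 729) (sig j (x % 729))) =
      shift (run w x / 729) (sig j (run w x % 729))
  | [], _, _, _ => rfl
  | i :: w, hw, x, hx => by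
    rw [List.flatMap_cons, run_append, sig_step hj (hw i List.mem_cons_self) hx,
      sig_run hj (fun k hk => hw k (List.mem_cons_of_mem _ hk)) (stp_lt x i)]
    rfl

/-- The torus preserves the cocycle and the product. -/
theorem sig_phi {j a b : ℕ} (hj : j < 4) (ha : a < 729) (hb : b < 729) :
    phi (sig j a) (sig j b) = phi a b ∧ mu (sig j a) (sig j b) = sig j (mu a b) := by
  have hw : ∀ i ∈ (lts b).flatMap fun i => lts (sig j (3 ^ i)), i < 6 := fun i hi => by
    obtain ⟨k, -, hk⟩ := List.mem_flatMap.1 hi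
    exact lts_lt hk
  have hsa := sig_lt hj ha
  have hsb := sig_lt hj hb
  have h0 := sig_run hj (w := lts b) (fun i => lts_lt) (x := 0) (by norm_num)
  rw [(nf hb).1] at h0
  have e0 : shift (0 / 729) (sig j (0 % 729)) = 0 := by rw [sig_zero hj]; rfl
  have e1 : shift (b / 729) (sig j (b % 729)) = shift 0 (sig j b) := by
    rw [Nat.div_eq_of_lt hb, Nat.mod_eq_of_lt hb]
  rw [e0, e1] at h0
  have h1 := sig_run hj (w := lts b) (fun i => lts_lt) (x := a) (by omega)
  have e2 : shift (a / 729) (sig j (a % 729)) = sig j a := by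
    rw [Nat.div_eq_of_lt ha, Nat.mod_eq_of_lt ha]
    unfold shift
    omega
  have e3 := run_ext (w' := lts (sig j b)) hw (fun i => lts_lt) (z := 0)
    (by rw [h0, (nf hsb).1]) (x := sig j a) (by omega)
  rw [e2, e3] at h1
  have hr := run_lts (b := sig j b) hsa
  have hr' : run (lts b) a / 729 = phiN a b := rfl
  have hr'' : run (lts b) a % 729 = mu a b := rfl
  rw [hr, hr', hr''] at h1
  have l1 := mu_lt (sig j a) (sig j b)
  have l2 := sig_lt hj (mu_lt a b)
  have l3 : phiN a b < 3 := by
    have := run_lt (lts b) (x := a) (by omega)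
    unfold phiN
    omega
  have l4 : phiN (sig j a) (sig j b) < 3 := by
    have := run_lt (lts (sig j b)) (x := sig j a) (by omega)
    unfold phiN
    omega
  simp only [phi]
  generalize mu (sig j a) (sig j b) = p at h1 l1 ⊢
  generalize sig j (mu a b) = q at h1 l2 ⊢
  generalize phiN (sig j a) (sig j b) = k at h1 l4 ⊢
  generalize phiN a b = l at h1 l3 ⊢
  obtain ⟨rfl, rfl⟩ : k = l ∧ p = q := by unfold shift at h1; omega
  exact ⟨rfl, rfl⟩

end Cfsg.Agent.StemCert.G2Three.Cover
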