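import Cfsg.Agent.Lib.G2Three.Rep

/-!
Packed codes for matrices of degree seven over the field with three elements.
-/

set_option autoImplicit false

namespace Cfsg.Agent.StemCert.G2Three

open Cfsg.Agent.G2Three

/-- A row in digits of base thirty-two. -/
def enc (v : Fin 7 → ℕ) : ℕ :=
  v 0 + 32 * v 1 + 1024 * v 2 + 32768 * v 3 + 1048576 * v 4 + 33554432 * v 5 + 1073741824 * v 6

/-- A digit of a row. -/
def dg (x k : ℕ) : ℕ := x / 32 ^ k % 32

/-- Reduction of the digits modulo three. -/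
def red (x : ℕ) : ℕ :=
  x % 32 % 3 + 32 * (x / 32 % 32 % 3) + 1024 * (x / 1024 % 32 % 3) + 32768 * (x / 32768 % 32 % 3) +
    1048576 * (x / 1048576 % 32 % 3) + 33554432 * (x / 33554432 % 32 % 3) +
    1073741824 * (x / 1073741824 % 32 % 3)

/-- One row of a product. -/
def rowMul (B : List ℕ) (a : ℕ) : ℕ :=
  match B with
  | [b0, b1, b2, b3, b4, b5, b6] =>
    red (a % 32 * b0 + a / 32 % 32 * b1 + a / 1024 % 32 * b2 + a / 32768 % 32 * b3 +
      a / 1048576 % 32 * b4 + a / 33554432 % 32 * b5 + a / 1073741824 % 32 * b6)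
  | _ => 0

/-- The product of two codes. -/
def mmul (A B : List ℕ) : List ℕ := A.map (rowMul B)

/-- Equality of two codes. -/
def ceq : List ℕ → List ℕ → Bool
  | [], [] => true
  | a :: A, b :: B => Nat.beq a b && ceq A B
  | _, _ => false

theorem eq_of_ceq : ∀ {A B : List ℕ}, ceq A B = true → A = B
  | [], [], _ => rfl
  | [], _ :: _, h => by simp [ceq] at h
  | _ :: _, [], h => by simp [ceq] at h
  | a :: A, b :: B, h => by
    simp only [ceq, Bool.and_eq_true] at h
    rw [Nat.eq_of_beq_eq_true h.1, eq_of_ceq h.2]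

/-- The code of a matrix. -/
def code (M : M7) : List ℕ :=
  [enc fun j => (M 0 j).val, enc fun j => (M 1 j).val, enc fun j => (M 2 j).val,
    enc fun j => (M 3 j).val, enc fun j => (M 4 j).val, enc fun j => (M 5 j).val,
    enc fun j => (M 6 j).val]

theorem digits {x0 x1 x2 x3 x4 x5 x6 : ℕ} (h0 : x0 < 32) (h1 : x1 < 32) (h2 : x2 < 32)
    (h3 : x3 < 32) (h4 : x4 < 32) (h5 : x5 < 32) (h6 : x6 < 32) {y : ℕ}
    (hy : y = x0 + 32 * x1 + 1024 * x2 + 32768 * x3 + 1048576 * x4 + 33554432 * x5 +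
      1073741824 * x6) :
    y % 32 = x0 ∧ y / 32 % 32 = x1 ∧ y / 1024 % 32 = x2 ∧ y / 32768 % 32 = x3 ∧
      y / 1048576 % 32 = x4 ∧ y / 33554432 % 32 = x5 ∧ y / 1073741824 % 32 = x6 := by
  subst hy
  refine ⟨?_, ?_, ?_, ?_, ?_, ?_, ?_⟩ <;> omega

theorem rowMul_code (A B : M7) (i : Fin 7) :
    rowMul (code B) (enc fun j => (A i j).val) = enc fun j => ((A * B) i j).val := by
  have hA : ∀ j, (A i j).val < 32 := fun j => (ZMod.val_lt _).trans (by norm_num)
  obtain ⟨a0, a1, a2, a3, a4, a5, a6⟩ :=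
    digits (hA 0) (hA 1) (hA 2) (hA 3) (hA 4) (hA 5) (hA 6) (y := enc fun j => (A i j).val) rfl
  simp only [code, rowMul, a0, a1, a2, a3, a4, a5, a6]
  set s : Fin 7 → ℕ := fun j => ∑ k : Fin 7, (A i k).val * (B k j).val with hs
  have hb : ∀ j, s j < 32 := by
    intro j
    have h : ∀ k : Fin 7, (A i k).val * (B k j).val ≤ 4 := fun k =>
      Nat.mul_le_mul (Nat.le_of_lt_succ (ZMod.val_lt (A i k))) (Nat.le_of_lt_succ (ZMod.val_lt (B k j)))
    calc s j ≤ ∑ _k : Fin 7, 4 := Finset.sum_le_sum fun k _ => h k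
      _ < 32 := by simp
  have hv : ∀ j, s j % 3 = ((A * B) i j).val := by
    intro j
    rw [← ZMod.val_natCast]
    congr 1
    simp [hs, Matrix.mul_apply]
  have hy : (A i 0).val * (enc fun j => (B 0 j).val) + (A i 1).val * (enc fun j => (B 1 j).val) +
      (A i 2).val * (enc fun j => (B 2 j).val) + (A i 3).val * (enc fun j => (B 3 j).val) +
      (A i 4).val * (enc fun j => (B 4 j).val) + (A i 5).val * (enc fun j => (B 5 j).val) +
      (A i 6).val * (enc fun j => (B 6 j).val) = s 0 + 32 * s 1 + 1024 * s 2 + 32768 * s 3 +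
      1048576 * s 4 + 33554432 * s 5 + 1073741824 * s 6 := by
    simp only [hs, enc, Fin.sum_univ_seven]
    ring
  obtain ⟨c0, c1, c2, c3, c4, c5, c6⟩ := digits (hb 0) (hb 1) (hb 2) (hb 3) (hb 4) (hb 5) (hb 6) hy
  simp only [red, c0, c1, c2, c3, c4, c5, c6, hv]
  rfl

theorem mmul_code (A B : M7) : mmul (code A) (code B) = code (A * B) := by
  show [rowMul (code B) _, rowMul (code B) _, rowMul (code B) _, rowMul (code B) _,
    rowMul (code B) _, rowMul (code B) _, rowMul (code B) _] = _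
  simp only [rowMul_code]
  rfl

theorem code_injective : Function.Injective code := by
  intro A B h
  ext i j
  simp only [code, List.cons.injEq, and_true] at h
  obtain ⟨h0, h1, h2, h3, h4, h5, h6⟩ := h
  have key : ∀ k, (enc fun l => (A k l).val) = enc fun l => (B k l).val := by
    intro k
    fin_cases k <;> assumption
  have hlt : ∀ (M : M7) l, (M i l).val < 32 := fun M l => (ZMod.val_lt _).trans (by norm_num)
  obtain ⟨a0, a1, a2, a3, a4, a5, a6⟩ :=
    digits (hlt A 0) (hlt A 1) (hlt A 2) (hlt A 3) (hlt A 4) (hlt A 5) (hlt A 6)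
      (y := enc fun l => (A i l).val) rfl
  obtain ⟨b0, b1, b2, b3, b4, b5, b6⟩ :=
    digits (hlt B 0) (hlt B 1) (hlt B 2) (hlt B 3) (hlt B 4) (hlt B 5) (hlt B 6)
      (y := enc fun l => (B i l).val) rfl
  rw [key i] at a0 a1 a2 a3 a4 a5 a6
  apply ZMod.val_injective
  fin_cases j
  exacts [a0.symm.trans b0, a1.symm.trans b1, a2.symm.trans b2, a3.symm.trans b3, a4.symm.trans b4,
    a5.symm.trans b5, a6.symm.trans b6]

/-- The code of the identity. -/
def idC : List ℕ := [1, 32, 1024, 32768, 1048576, 33554432, 1073741824]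

theorem code_one : code (1 : M7) = idC := by decide +kernel

/-- The codes of the twelve root elements. -/
def rootC : List (List ℕ) := (List.range 12).map fun r => code (root (Fin.ofNat 12 r))

end Cfsg.Agent.StemCert.G2Three
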