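import Cfsg.Agent.Lib.StemCert.G2ThreeCoverChecks
import Cfsg.Agent.Lib.StemCert.G2ThreeBound
import Cfsg.Agent.Lib.StemCert.Cor

/-!
A triple stem cover of `G₂(3)`: the corestriction of a torus invariant cocycle of a Sylow
3-subgroup.
-/

set_option autoImplicit false
set_option maxRecDepth 20000

namespace Cfsg.Agent.StemCert.G2Three.Cover

open Cfsg.Lie Cfsg.Agent.G2Three

universe u

variable {K : Type u} [Field K] [Fintype K] (hK : Fintype.card K = 3)

theorem enc_lt (M : M7) (i : Fin 7) : enc (fun j => (M i j).val) < 34359738368 := by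
  have h : ∀ j, (M i j).val < 3 := fun j => ZMod.val_lt _
  have := h 0; have := h 1; have := h 2; have := h 3; have := h 4; have := h 5; have := h 6
  simp only [enc]
  omega

theorem unk_key (M : M7) : unk (key (code M)) = code M := by
  have h0 := enc_lt M 0; have h1 := enc_lt M 1; have h2 := enc_lt M 2; have h3 := enc_lt M 3
  have h4 := enc_lt M 4; have h5 := enc_lt M 5; have h6 := enc_lt M 6
  simp only [code, key, unk]
  generalize enc (fun j => (M 0 j).val) = x0 at h0 ⊢
  generalize enc (fun j => (M 1 j).val) = x1 at h1 ⊢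
  generalize enc (fun j => (M 2 j).val) = x2 at h2 ⊢
  generalize enc (fun j => (M 3 j).val) = x3 at h3 ⊢
  generalize enc (fun j => (M 4 j).val) = x4 at h4 ⊢
  generalize enc (fun j => (M 5 j).val) = x5 at h5 ⊢
  generalize enc (fun j => (M 6 j).val) = x6 at h6 ⊢
  simp only [List.cons.injEq, and_true]
  norm_num
  refine ⟨?_, ?_, ?_, ?_, ?_, ?_, ?_⟩ <;> omega

include hK in
theorem eq_of_key {x y : ↥(chevG2.group K)} (h : key (code (rep hK x)) = key (code (rep hK y))) :
    x = y :=
  eq_of_code hK (by rw [← unk_key, h, unk_key])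

theorem wEl_append : ∀ u v : List ℕ, wEl K (u ++ v) = wEl K u * wEl K v
  | [], v => by simp [wEl]
  | r :: u, v => by rw [List.cons_append, wEl, wEl, wEl_append u v, mul_assoc]

/-- The element of a normal form. -/
noncomputable def el (K : Type u) [Field K] [Fintype K] (e : ℕ) : ↥(chevG2.group K) :=
  wEl K ((lts e).map rt)

/-- A torus element. -/
noncomputable def tor (K : Type u) [Field K] [Fintype K] (j : ℕ) : ↥(chevG2.group K) :=
  wEl K (torW.getD j [])

include hK in
theorem code_xr {r : ℕ} (hr : r < 12) :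
    code (rep hK (xr (Fin.ofNat 12 r))) = roots.getD r idC := by
  rw [rep_xr, ← roots_eq]
  congr 1
  simp [Nat.mod_eq_of_lt hr]

include hK in
theorem code_run {w : List ℕ} (hw : ∀ i ∈ w, i < 6) :
    key (code (rep hK (wEl K (w.map rt)))) = fc (run w 0 % 729) := by
  induction w using List.reverseRecOn with
  | nil =>
    have h := tor_ok
    simp only [torOk, Bool.and_eq_true] at h
    rw [List.map_nil, wEl, map_one, code_one]
    exact (Nat.eq_of_beq_eq_true h.1.1.1.1.1.1).symm
  | append_singleton w i ih =>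
    have hi : i < 6 := hw i (by simp)
    have ih' := ih fun k hk => hw k (List.mem_append_left _ hk)
    have h := Nat.eq_of_beq_eq_true (formStep_ok (i := i) hi (Nat.mod_lt (run w 0) (show 729 > 0 by norm_num)))
    rw [List.map_append, wEl_append, List.map_singleton, wEl, wEl, mul_one, map_mul, ← mmul_code,
      code_xr hK (show rt i < 12 by unfold rt; omega), ← unk_key, ih', h, run_append]
    congr 1
    show stp (run w 0 % 729) i % 729 = stp (run w 0) i % 729
    unfold stp
    simp only [Nat.mod_mod]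
    omega

include hK in
theorem code_el {e : ℕ} (he : e < 729) : key (code (rep hK (el K e))) = fc e := by
  rw [el, code_run hK fun i => lts_lt, (nf he).1, Nat.mod_eq_of_lt he]

include hK in
theorem el_word {w : List ℕ} (hw : ∀ i ∈ w, i < 6) : wEl K (w.map rt) = el K (run w 0 % 729) :=
  eq_of_key hK (by rw [code_run hK hw, code_el hK (Nat.mod_lt _ (by norm_num))])

include hK in
theorem el_mul {a b : ℕ} (ha : a < 729) : el K a * el K b = el K (mu a b) := by
  rw [el, el, ← wEl_append, ← List.map_append, el_word hK (fun i hi => ?_), run_append, (nf ha).1]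
  · rfl
  · rcases List.mem_append.1 hi with h | h <;> exact lts_lt h

theorem el_zero : el K 0 = 1 := by rw [el, lts_zero]; rfl

theorem tor_zero : tor K 0 = 1 := by rfl

include hK in
theorem code_tor (j : ℕ) : code (rep hK (tor K j)) = tc j := by
  refine wEl_code hK _ ?_
  have h := tor_ok
  simp only [torOk, Bool.and_eq_true, List.all_eq_true] at h
  by_cases hj : j < torW.length
  · rw [List.getD_eq_getElem _ _ hj]; exact h.1.1.1.1.1.2 _ (List.getElem_mem _)
  · rw [List.getD_eq_default _ _ (not_lt.1 hj)]; rfl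

include hK in
theorem tor_mul {i j : ℕ} (hi : i < 4) (hj : j < 4) : tor K i * tor K j = tor K (i ^^^ j) := by
  have h := tor_ok
  simp only [torOk, Bool.and_eq_true, List.all_eq_true, List.mem_range] at h
  refine eq_of_code hK ?_
  rw [map_mul, ← mmul_code, code_tor hK, code_tor hK, code_tor hK]
  exact eq_of_ceq (h.1.1.1.2 i hi j hj)

include hK in
theorem tor_gen {j i : ℕ} (hj : j < 4) (hi : i < 6) :
    tor K j * wEl K [rt i] = el K (sig j (3 ^ i)) * tor K j := by
  have h := tor_ok
  simp only [torOk, Bool.and_eq_true, List.all_eq_true, List.mem_range] at h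
  have h3 : 3 ^ i < 729 := by interval_cases i <;> norm_num
  refine eq_of_key hK ?_
  rw [wEl, wEl, mul_one, map_mul, map_mul, ← mmul_code, ← mmul_code, code_tor hK,
    code_xr hK (show rt i < 12 by unfold rt; omega), ← unk_key (rep hK (el K _)),
    code_el hK (sig_lt hj h3)]
  exact Nat.eq_of_beq_eq_true (h.1.1.2 j hj i hi)

include hK in
theorem tor_el {j e : ℕ} (hj : j < 4) (he : e < 729) : tor K j * el K e = el K (sig j e) * tor K j := by
  have key' : ∀ w : List ℕ, (∀ i ∈ w, i < 6) → tor K j * wEl K (w.map rt) =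
      wEl K ((w.flatMap fun i => lts (sig j (3 ^ i))).map rt) * tor K j := by
    intro w hw
    induction w with
    | nil => simp [wEl]
    | cons i w ih =>
      have h1 := tor_gen hK hj (hw i List.mem_cons_self)
      rw [show (i :: w).map rt = [rt i] ++ w.map rt from rfl, wEl_append, List.flatMap_cons,
        List.map_append, wEl_append, ← mul_assoc, h1, mul_assoc,
        ih fun k hk => hw k (List.mem_cons_of_mem _ hk), ← mul_assoc, el]
  have h0 := sig_run hj (w := lts e) (fun i => lts_lt) (x := 0) (by norm_num)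
  have e0 : shift (0 / 729) (sig j (0 % 729)) = 0 := by rw [sig_zero hj]; rfl
  rw [(nf he).1, e0, Nat.div_eq_of_lt he, Nat.mod_eq_of_lt he] at h0
  rw [el, key' _ fun i => lts_lt, el_word hK (fun i hi => ?_), h0]
  · have hs := sig_lt hj he
    congr 2
    unfold shift
    omega
  · obtain ⟨k, -, hk⟩ := List.mem_flatMap.1 hi
    exact lts_lt hk

include hK in
theorem el_inj {a b : ℕ} (ha : a < 729) (hb : b < 729) (h : el K a = el K b) : a = b := by
  have hk := congrArg (fun x => key (code (rep hK x))) h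
  simp only [code_el hK ha, code_el hK hb] at hk
  have ht := tor_ok
  simp only [torOk, Bool.and_eq_true, List.all_eq_true, List.mem_range] at ht
  have hN : cert3.N = 729 := check3.2.2.2.2.1
  refine inj3 a (by omega) b (by omega) ?_
  rw [f3, f3, ← Nat.eq_of_beq_eq_true (ht.2 a ha), ← Nat.eq_of_beq_eq_true (ht.2 b hb), hk]

include hK in
theorem el_ne_tor {j e : ℕ} (hj : j < 4) (he : e < 729) (h : tor K j = el K e) : j = 0 := by
  by_contra hne
  have ht := tor_ok
  simp only [torOk, Bool.and_eq_true, List.all_eq_true, List.mem_range] at ht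
  have h1 := ht.1.2 (j - 1) (by omega) e he
  rw [Nat.sub_add_cancel (Nat.one_le_iff_ne_zero.2 hne), ← code_tor hK, h, code_el hK he,
    Nat.beq_refl] at h1
  simp at h1

include hK in
theorem finite_group : Finite ↥(chevG2.group K) :=
  Nat.finite_of_card_ne_zero (by rw [card_group hK]; norm_num)

theorem xor_lt {i j : ℕ} (hi : i < 4) (hj : j < 4) : i ^^^ j < 4 :=
  Nat.xor_lt_two_pow (n := 2) hi hj

include hK in
theorem borel_mul {a i b j : ℕ} (ha : a < 729) (hi : i < 4) (hb : b < 729) (hj : j < 4) :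
    el K a * tor K i * (el K b * tor K j) = el K (mu a (sig i b)) * tor K (i ^^^ j) := by
  rw [mul_assoc, ← mul_assoc (tor K i), tor_el hK hi hb, mul_assoc (el K (sig i b)), ← mul_assoc,
    el_mul hK ha, tor_mul hK hi hj]

/-- The Borel subgroup. -/
noncomputable def borel : Subgroup ↥(chevG2.group K) where
  carrier := {x | ∃ a i, a < 729 ∧ i < 4 ∧ x = el K a * tor K i}
  one_mem' := ⟨0, 0, by norm_num, by norm_num, by rw [el_zero, tor_zero, mul_one]⟩
  mul_mem' := by
    rintro x y ⟨a, i, ha, hi, rfl⟩ ⟨b, j, hb, hj, rfl⟩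
    exact ⟨_, _, mu_lt _ _, xor_lt hi hj, borel_mul hK ha hi hb hj⟩
  inv_mem' := by
    intro x hx
    haveI := finite_group hK
    have hp : ∀ n : ℕ, ∃ a i, a < 729 ∧ i < 4 ∧ x ^ n = el K a * tor K i := by
      intro n
      induction n with
      | zero => exact ⟨0, 0, by norm_num, by norm_num, by rw [el_zero, tor_zero, mul_one, pow_zero]⟩
      | succ n ih =>
        obtain ⟨a, i, ha, hi, e⟩ := ih
        obtain ⟨b, j, hb, hj, rfl⟩ := hx
        exact ⟨_, _, mu_lt _ _, xor_lt hi hj, by rw [pow_succ, e, borel_mul hK ha hi hb hj]⟩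
    obtain ⟨a, i, ha, hi, e⟩ := hp (orderOf x - 1)
    refine ⟨a, i, ha, hi, ?_⟩
    rw [← e]
    refine inv_eq_of_mul_eq_one_right ?_
    rw [← pow_succ', Nat.sub_add_cancel (orderOf_pos x), pow_orderOf_eq_one]

include hK in
theorem crd_unique {a i b j : ℕ} (ha : a < 729) (hi : i < 4) (hb : b < 729) (hj : j < 4)
    (h : el K a * tor K i = el K b * tor K j) : a = b ∧ i = j := by
  haveI := finite_group hK
  have hc : ∀ n : ℕ, ∃ c, c < 729 ∧ el K a ^ n = el K c := by
    intro n
    induction n with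
    | zero => exact ⟨0, by norm_num, by rw [el_zero, pow_zero]⟩
    | succ n ih =>
      obtain ⟨c, hc, e⟩ := ih
      exact ⟨_, mu_lt _ _, by rw [pow_succ, e, el_mul hK hc]⟩
  obtain ⟨c, hc', e⟩ := hc (orderOf (el K a) - 1)
  have h1 : el K c * el K a = 1 := by
    rw [← e, ← pow_succ, Nat.sub_add_cancel (orderOf_pos _), pow_orderOf_eq_one]
  have h2 : tor K (i ^^^ j) = el K (mu c b) := by
    have h3 := congrArg (fun x => el K c * x * tor K j) h
    rw [← mul_assoc, h1, one_mul, tor_mul hK hi hj, mul_assoc (el K c), mul_assoc, tor_mul hK hj hj,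
      Nat.xor_self, tor_zero, mul_one, el_mul hK hc'] at h3
    exact h3
  have hij : i = j := Nat.xor_eq_zero_iff.1 (el_ne_tor hK (xor_lt hi hj) (mu_lt _ _) h2)
  subst hij
  exact ⟨el_inj hK ha hb (mul_right_cancel h), rfl⟩

/-- Coordinates in the Borel subgroup. -/
noncomputable def crd (x : ↥(chevG2.group K)) : ℕ × ℕ :=
  open Classical in
  if h : ∃ a i, a < 729 ∧ i < 4 ∧ x = el K a * tor K i then ⟨h.choose, h.choose_spec.choose⟩
  else ⟨0, 0⟩

include hK in
theorem crd_eq {a i : ℕ} (ha : a < 729) (hi : i < 4) : crd (el K a * tor K i) = (a, i) := by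
  have h : ∃ b j, b < 729 ∧ j < 4 ∧ el K a * tor K i = el K b * tor K j := ⟨a, i, ha, hi, rfl⟩
  rw [crd, dif_pos h]
  obtain ⟨h1, h2, h3⟩ := h.choose_spec.choose_spec
  obtain ⟨e1, e2⟩ := crd_unique hK ha hi h1 h2 h3
  exact Prod.ext e1.symm e2.symm

/-- The cocycle on the Borel subgroup. -/
noncomputable def cob (x y : ↥(chevG2.group K)) : ZMod 3 :=
  phi (crd x).1 (sig (crd x).2 (crd y).1)

include hK in
theorem cob_eq {a i b j : ℕ} (ha : a < 729) (hi : i < 4) (hb : b < 729) (hj : j < 4) :
    cob (el K a * tor K i) (el K b * tor K j) = phi a (sig i b) := by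
  rw [cob, crd_eq hK ha hi, crd_eq hK hb hj]

include hK in
theorem exists_rep : ∀ i, i < 1456 → ∃ x : ↥(chevG2.group K), key (code (rep hK x)) = rc i := by
  intro i
  induction i using Nat.strong_induction_on with
  | _ i ih =>
    intro hi
    have h := repStep_ok i hi
    simp only [repStep] at h
    by_cases h0 : i = 0
    · subst h0
      refine ⟨1, ?_⟩
      rw [map_one, code_one]
      exact (Nat.eq_of_beq_eq_true h).symm
    · rw [show Nat.beq i 0 = false from Bool.eq_false_iff.2 fun e => h0 (Nat.eq_of_beq_eq_true e),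
        cond_false] at h
      simp only [Bool.and_eq_true, Nat.blt_eq] at h
      obtain ⟨⟨hp, hg⟩, he⟩ := h
      obtain ⟨y, hy⟩ := ih _ hp (by omega)
      have hr : ∀ a, actRoot a < 12 := fun a => by
        rcases a with _ | _ | _ | _ | _ | a <;> simp [actRoot]
      refine ⟨xr (Fin.ofNat 12 (actRoot (look repW 13 i / 2048))) * y, ?_⟩
      rw [map_mul, ← mmul_code, code_xr hK (hr _), ← unk_key (rep hK y), hy]
      exact Nat.eq_of_beq_eq_true he

/-- A representative. -/
noncomputable def rEl (i : Fin 1456) : ↥(chevG2.group K) := (exists_rep hK i i.2).choose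

theorem code_rEl (i : Fin 1456) : key (code (rep hK (rEl hK i))) = rc i :=
  (exists_rep hK i i.2).choose_spec

/-- One of the five generators. -/
noncomputable def gen (K : Type u) [Field K] [Fintype K] (a : ℕ) : ↥(chevG2.group K) :=
  xr (Fin.ofNat 12 (actRoot a))

include hK in
theorem act_eq {a : ℕ} (ha : a < 5) (i : Fin 1456) :
    ∃ h : actQ a i < 1456, gen K a * rEl hK i =
      rEl hK ⟨actQ a i, h⟩ * (el K (actE a i) * tor K (actJ a i)) ∧ actE a i < 729 ∧ actJ a i < 4 := by
  have h := actStep_ok ha i.2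
  simp only [actStep, Bool.and_eq_true, Nat.blt_eq] at h
  refine ⟨h.1.1, eq_of_key hK ?_, h.1.2, Nat.mod_lt _ (by norm_num)⟩
  have hr : actRoot a < 12 := by interval_cases a <;> simp [actRoot]
  rw [map_mul, map_mul, map_mul, gen, ← mmul_code, ← mmul_code, ← mmul_code, code_xr hK hr,
    ← unk_key (rep hK (rEl hK i)), code_rEl, ← unk_key (rep hK (rEl hK ⟨_, h.1.1⟩)), code_rEl,
    ← unk_key (rep hK (el K _)), code_el hK h.1.2, code_tor hK]
  exact Nat.eq_of_beq_eq_true h.2

/-- The coset of a representative. -/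
noncomputable def pt (i : Fin 1456) : ↥(chevG2.group K) ⧸ borel hK := QuotientGroup.mk (rEl hK i)

theorem gen_pt {a : ℕ} (ha : a < 5) (i : Fin 1456) :
    ∃ h : actQ a i < 1456, gen K a • pt hK i = pt hK ⟨actQ a i, h⟩ := by
  obtain ⟨h, e, he, hj⟩ := act_eq hK ha i
  refine ⟨h, ?_⟩
  show QuotientGroup.mk (gen K a * rEl hK i) = _
  rw [e]
  exact QuotientGroup.mk_mul_of_mem _ ⟨_, _, he, hj, rfl⟩

theorem pt_surjective : Function.Surjective (pt hK) := by
  haveI := finite_group hK
  let M : Set ↥(chevG2.group K) := {g | ∀ i, ∃ q, g • pt hK i = pt hK q}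
  have h1 : (1 : ↥(chevG2.group K)) ∈ M := fun i => ⟨i, one_smul _ _⟩
  have hmul : ∀ a b, a ∈ M → b ∈ M → a * b ∈ M := fun a b ha hb i => by
    obtain ⟨q, hq⟩ := hb i
    obtain ⟨r, hr⟩ := ha q
    exact ⟨r, by rw [mul_smul, hq, hr]⟩
  have hgen : ∀ a < 5, gen K a ∈ M := fun a ha i => by
    obtain ⟨h, e⟩ := gen_pt hK ha i
    exact ⟨_, e⟩
  have hall : ∀ g, g ∈ M := by
    intro g
    induction g using group_induction hK with
    | h1 => exact h1
    | hmul a b ha hb => exact hmul a b ha hb
    | hinv a ha =>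
      have hp : ∀ n : ℕ, a ^ n ∈ M := fun n => by
        induction n with
        | zero => rw [pow_zero]; exact h1
        | succ n ih => rw [pow_succ]; exact hmul _ _ ih ha
      rw [show a⁻¹ = a ^ (orderOf a - 1) from inv_eq_of_mul_eq_one_right (by
        rw [← pow_succ', Nat.sub_add_cancel (orderOf_pos a), pow_orderOf_eq_one])]
      exact hp _
    | hroot r =>
      have h := root_ok
      simp only [rootOk, Bool.and_eq_true, List.all_eq_true, List.mem_range, Bool.or_eq_true] at h
      obtain ⟨⟨⟨hlen, hw⟩, hk⟩, -⟩ := h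
      have hlen' := Nat.eq_of_beq_eq_true hlen
      have hm : rootW.getD r.val [] ∈ rootW := by
        rw [List.getD_eq_getElem _ _ (by omega)]; exact List.getElem_mem _
      have hword : ∀ w : List ℕ,
          (∀ x ∈ w, ((Nat.beq x 6 = true ∨ Nat.beq x 7 = true) ∨ Nat.beq x 5 = true) ∨ Nat.beq x 4 = true) →
            wEl K w ∈ M ∧ wOk w = true := by
        intro w hw'
        induction w with
        | nil => exact ⟨h1, rfl⟩
        | cons x w ih =>
          obtain ⟨i1, i2⟩ := ih fun y hy => hw' y (List.mem_cons_of_mem _ hy)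
          obtain ⟨a, ha, rfl⟩ : ∃ a, a < 4 ∧ x = actRoot a := by
            rcases hw' x List.mem_cons_self with ((e | e) | e) | e <;>
              obtain rfl := Nat.eq_of_beq_eq_true e
            exacts [⟨0, by norm_num, rfl⟩, ⟨1, by norm_num, rfl⟩, ⟨2, by norm_num, rfl⟩,
              ⟨3, by norm_num, rfl⟩]
          refine ⟨hmul _ _ (hgen a (by omega)) i1, ?_⟩
          simp only [wOk, List.all_cons, Bool.and_eq_true, Nat.blt_eq] at i2 ⊢
          exact ⟨by interval_cases a <;> simp [actRoot], i2⟩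
      obtain ⟨g1, g2⟩ := hword _ (hw _ hm)
      have e : xr r = wEl K (rootW.getD r.val []) := by
        refine eq_of_key hK ?_
        rw [rep_xr, ← roots_eq, wEl_code hK _ g2]
        exact Nat.eq_of_beq_eq_true (hk _ r.2)
      rw [e]
      exact g1
  intro x
  obtain ⟨g, rfl⟩ := QuotientGroup.mk_surjective x
  have h0 : (rEl hK 0) = 1 := eq_of_key hK (by
    rw [code_rEl, map_one, code_one]
    exact Nat.eq_of_beq_eq_true (repStep_ok 0 (by norm_num)))
  obtain ⟨q, hq⟩ := hall g 0
  refine ⟨q, ?_⟩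
  rw [← hq]
  show QuotientGroup.mk (g * rEl hK 0) = _
  rw [h0, mul_one]

theorem card_borel : Nat.card (borel hK) = 2916 := by
  rw [show 2916 = Nat.card (Fin 729 × Fin 4) by simp]
  refine (Nat.card_congr (Equiv.ofBijective
    (fun x : Fin 729 × Fin 4 => (⟨el K x.1 * tor K x.2, x.1, x.2, x.1.2, x.2.2, rfl⟩ : borel hK))
    ⟨fun x y h => ?_, fun ⟨g, a, i, ha, hi, e⟩ => ⟨(⟨a, ha⟩, ⟨i, hi⟩), Subtype.ext e.symm⟩⟩)).symm
  obtain ⟨e1, e2⟩ := crd_unique hK x.1.2 x.2.2 y.1.2 y.2.2 (congrArg Subtype.val h)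
  exact Prod.ext (Fin.ext e1) (Fin.ext e2)

theorem pt_bijective : Function.Bijective (pt hK) := by
  haveI := finite_group hK
  refine (Nat.bijective_iff_surjective_and_card _).2 ⟨pt_surjective hK, ?_⟩
  have h := Subgroup.card_mul_index (borel hK)
  rw [card_borel, card_group hK, Subgroup.index_eq_card] at h
  rw [Nat.card_fin]
  omega

/-- The datum of the corestriction. -/
noncomputable abbrev datum : Cor.Datum ↥(chevG2.group K) 3 where
  B := borel hK
  rep x := rEl hK ((Equiv.ofBijective _ (pt_bijective hK)).symm x)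
  rep_spec x := (Equiv.ofBijective _ (pt_bijective hK)).apply_symm_apply x
  c := cob
  one_left := by
    rintro h ⟨b, j, hb, hj, rfl⟩
    have e := cob_eq hK (show 0 < 729 by norm_num) (show 0 < 4 by norm_num) hb hj
    rw [el_zero, tor_zero, one_mul] at e
    rw [e, sig_zero_left, (phi_zero_left hb).1]
  one_right := by
    rintro g ⟨a, i, ha, hi, rfl⟩
    have e := cob_eq hK ha hi (show 0 < 729 by norm_num) (show 0 < 4 by norm_num)
    rw [el_zero, tor_zero, one_mul] at e
    rw [e, sig_zero hi, (phi_zero_right ha).1]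
  cocycle := by
    rintro g ⟨a, i, ha, hi, rfl⟩ h ⟨b, j, hb, hj, rfl⟩ k ⟨c, l, hc, hl, rfl⟩
    have hs := sig_lt hi hb
    have hjc := sig_lt hj hc
    rw [borel_mul hK ha hi hb hj, borel_mul hK hb hj hc hl, cob_eq hK ha hi hb hj,
      cob_eq hK (mu_lt _ _) (xor_lt hi hj) hc hl, cob_eq hK hb hj hc hl,
      cob_eq hK ha hi (mu_lt _ _) (xor_lt hj hl), ← sig_sig hi hj hc,
      (phi_cocycle ha hs).1, ← (sig_phi hi hb hjc).1, (sig_phi hi hb hjc).2]

theorem mon_gen {a : ℕ} (ha : a < 5) (i : Fin 1456) :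
    Cor.mon (datum hK) (gen K a) (pt hK i) = el K (actE a i) * tor K (actJ a i) := by
  obtain ⟨h, e, -⟩ := act_eq hK ha i
  obtain ⟨h', e'⟩ := gen_pt hK ha i
  have hr : ∀ q, (datum hK).rep (pt hK q) = rEl hK q := fun q => by
    show rEl hK ((Equiv.ofBijective _ (pt_bijective hK)).symm (pt hK q)) = _
    rw [Equiv.ofBijective_symm_apply_apply]
  show ((datum hK).rep (gen K a • pt hK i))⁻¹ * gen K a * (datum hK).rep (pt hK i) = _
  rw [e', hr, hr, mul_assoc, e, inv_mul_cancel_left]

theorem cor_gen {a b : ℕ} (ha : a < 5) (hb : b < 5) :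
    haveI := finite_group hK
    Cor.cor (datum hK) (gen K a) (gen K b) =
      ∑ i : Fin 1456, phi (actE a (actQ b i)) (sig (actJ a (actQ b i)) (actE b i)) := by
  haveI := finite_group hK
  letI := Fintype.ofFinite (↥(chevG2.group K) ⧸ borel hK)
  refine Eq.trans ?_ (Finset.sum_congr rfl fun i _ => rfl)
  refine (Fintype.sum_bijective (pt hK) (pt_bijective hK) _ _ fun i => ?_).symm
  obtain ⟨h, e⟩ := gen_pt hK hb i
  obtain ⟨_, -, h1, h2⟩ := act_eq hK hb i
  obtain ⟨_, -, h3, h4⟩ := act_eq hK ha ⟨actQ b i, h⟩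
  rw [e, mon_gen hK hb, mon_gen hK ha]
  exact (cob_eq hK h3 h4 h1 h2).symm

theorem pairing_sum : ((List.range 1456).map pairTerm).sum % 3 = 2 := by
  obtain ⟨p0, p1, p2, p3, p4, p5, p6, p7⟩ := pair_parts
  simp only [pairPart] at p0 p1 p2 p3 p4 p5 p6 p7
  have e : ∀ n, ((List.range (182 * (n + 1))).map pairTerm).sum =
      ((List.range (182 * n)).map pairTerm).sum +
        ((List.range 182).map fun e => pairTerm (182 * n + e)).sum := by
    intro n
    rw [Nat.mul_succ, List.range_add, List.map_append, List.sum_append, List.map_map]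
    rfl
  have a0 := e 0; have a1 := e 1; have a2 := e 2; have a3 := e 3
  have a4 := e 4; have a5 := e 5; have a6 := e 6; have a7 := e 7
  simp only [Nat.mul_zero, List.range_zero, List.map_nil, List.sum_nil, Nat.reduceAdd, Nat.reduceMul] at a0 a1 a2 a3 a4 a5 a6 a7 p0 p1 p2 p3 p4 p5 p6 p7
  omega

include hK in
theorem stem : haveI := finite_group hK; Cfsg.IsStemExtension (Cor.proj (datum hK)) := by
  haveI := finite_group hK
  haveI : Fact (Nat.Prime 3) := ⟨Nat.prime_three⟩
  refine Cor.proj_stem (datum hK) (a := gen K 0) (b := gen K 4) ?_ ?_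
  · have h := root_ok
    simp only [rootOk, Bool.and_eq_true] at h
    refine eq_of_key hK ?_
    rw [map_mul, map_mul, ← mmul_code, ← mmul_code, gen, gen, code_xr hK (by decide),
      code_xr hK (by decide)]
    exact Nat.eq_of_beq_eq_true h.2
  · intro h
    rw [cor_gen hK (by norm_num) (by norm_num), cor_gen hK (by norm_num) (by norm_num)] at h
    have h2 : ((((List.range 1456).map pairTerm).sum : ℕ) : ZMod 3) = 0 := by
      have hs : ((List.range 1456).map pairTerm).sum = ∑ i : Fin 1456, pairTerm i := by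
        rw [Fin.sum_univ_eq_sum_range pairTerm 1456]
        rfl
      rw [hs, Nat.cast_sum]
      simp only [pairTerm, Nat.cast_add, Nat.cast_mul, Finset.sum_add_distrib, ← Finset.mul_sum]
      simp only [phi] at h
      rw [h, Nat.cast_ofNat, show (2 : ZMod 3) = -1 from rfl, neg_one_mul, add_neg_cancel]
    rw [← ZMod.natCast_mod, pairing_sum] at h2
    exact absurd h2 (by decide +revert)

end Cfsg.Agent.StemCert.G2Three.Cover
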