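import Cfsg.Agent.Lib.StemCert.G2ThreeCheck
import Cfsg.Agent.Lib.StemCert.G2ThreeKeys
import Cfsg.Agent.Lib.StemCert.G2ThreeCocycle

/-!
The checkers for the triple cover of `G₂(3)`.
-/

set_option autoImplicit false

namespace Cfsg.Agent.StemCert.G2Three.Cover

/-- The rows of a packed code. -/
def unk (k : ℕ) : List ℕ :=
  [k % 34359738368, k / 34359738368 % 34359738368, k / 34359738368 ^ 2 % 34359738368,
    k / 34359738368 ^ 3 % 34359738368, k / 34359738368 ^ 4 % 34359738368,
    k / 34359738368 ^ 5 % 34359738368, k / 34359738368 ^ 6 % 34359738368]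

/-- The code of a normal form. -/
def fc (e : ℕ) : ℕ := look formT 245 e

/-- The code of a representative. -/
def rc (i : ℕ) : ℕ := look repT 245 i

/-- The code of a torus element. -/
def tc (j : ℕ) : List ℕ := wC (torW.getD j [])

/-- A step in the table of normal forms. -/
def formStep (i e : ℕ) : Bool :=
  Nat.beq (key (mmul (unk (fc e)) (roots.getD (rt i) idC))) (fc (stp e i % 729))

/-- The torus. -/
def torOk : Bool :=
  Nat.beq (fc 0) (key idC) && torW.all wOk && Nat.beq torW.length 4 &&
  (List.range 4).all (fun i => (List.range 4).all fun j =>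
    ceq (mmul (tc i) (tc j)) (tc (i ^^^ j))) &&
  (List.range 4).all (fun j => (List.range 6).all fun i =>
    Nat.beq (key (mmul (tc j) (roots.getD (rt i) idC))) (key (mmul (unk (fc (sig j (3 ^ i)))) (tc j)))) &&
  (List.range 3).all (fun j => (List.range 729).all fun e => !Nat.beq (fc e) (key (tc (j + 1)))) &&
  (List.range 729).all (fun e => Nat.beq (fc e)
    (StemCert.G2Three.look keys3 245 (StemCert.G2Three.look pos3 10 e)))

/-- The generators used on the cosets. -/
def actRoot (a : ℕ) : ℕ := [6, 7, 5, 4, 9].getD a 0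

/-- The parents of the representatives. -/
def repStep (i : ℕ) : Bool :=
  let v := look repW 13 i
  bif Nat.beq i 0 then Nat.beq (rc i) (key idC) else
    Nat.blt (v % 2048) i && Nat.blt (v / 2048) 4 &&
      Nat.beq (key (mmul (roots.getD (actRoot (v / 2048)) idC) (unk (rc (v % 2048))))) (rc i)

/-- The coset, normal form and torus part. -/
def actQ (a i : ℕ) : ℕ := look (actT.getD a []) 24 i / 4096

/-- The normal form. -/
def actE (a i : ℕ) : ℕ := look (actT.getD a []) 24 i % 4096 / 4

/-- The torus part. -/
def actJ (a i : ℕ) : ℕ := look (actT.getD a []) 24 i % 4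

/-- One entry of the action. -/
def actStep (a i : ℕ) : Bool :=
  Nat.blt (actQ a i) 1456 && Nat.blt (actE a i) 729 &&
    Nat.beq (key (mmul (roots.getD (actRoot a) idC) (unk (rc i))))
      (key (mmul (unk (rc (actQ a i))) (mmul (unk (fc (actE a i))) (tc (actJ a i)))))

/-- The roots from four of them. -/
def rootOk : Bool :=
  Nat.beq rootW.length 12 && rootW.all (fun w => w.all fun r => Nat.beq r 6 || Nat.beq r 7 || Nat.beq r 5 || Nat.beq r 4) &&
  (List.range 12).all (fun r => Nat.beq (key (roots.getD r idC)) (key (wC (rootW.getD r [])))) &&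
  Nat.beq (key (mmul (roots.getD 6 idC) (roots.getD 9 idC))) (key (mmul (roots.getD 9 idC) (roots.getD 6 idC)))

/-- The two sides of the commutator pairing at a coset. -/
def pairTerm (i : ℕ) : ℕ :=
  phiN (actE 0 (actQ 4 i)) (sig (actJ 0 (actQ 4 i)) (actE 4 i)) +
    2 * phiN (actE 4 (actQ 0 i)) (sig (actJ 4 (actQ 0 i)) (actE 0 i))

end Cfsg.Agent.StemCert.G2Three.Cover
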