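import Cfsg.Agent.Lib.StemCert.G2ThreeCoverCheck

/-! Kernel checks for the triple cover of `G₂(3)`, in parts. -/

set_option autoImplicit false
set_option maxRecDepth 20000
set_option Elab.async false

namespace Cfsg.Agent.StemCert.G2Three.Cover

theorem tor_ok : torOk = true := by decide +kernel

theorem root_ok : rootOk = true := by decide +kernel

/-- A part of a check. -/
def part (f : ℕ → Bool) (n k : ℕ) : Bool := (List.range n).all fun e => f (n * k + e)

theorem of_parts {f : ℕ → Bool} {n m : ℕ} (hn : 0 < n) (h : ∀ k < m, part f n k = true) :
    ∀ e < n * m, f e = true := by
  intro e he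
  have h1 := List.all_eq_true.1 (h (e / n) ((Nat.div_lt_iff_lt_mul hn).2 (by rwa [Nat.mul_comm])))
    (e % n) (List.mem_range.2 (Nat.mod_lt _ hn))
  rwa [Nat.div_add_mod] at h1

theorem formStep0_0 : part (formStep 0) 243 0 = true := by decide +kernel
theorem formStep0_1 : part (formStep 0) 243 1 = true := by decide +kernel
theorem formStep0_2 : part (formStep 0) 243 2 = true := by decide +kernel

theorem formStep0 : ∀ e < 729, (formStep 0) e = true :=
  of_parts (n := 243) (m := 3) (by norm_num) fun k hk => by
    interval_cases k
    exact formStep0_0
    exact formStep0_1
    exact formStep0_2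

theorem formStep1_0 : part (formStep 1) 243 0 = true := by decide +kernel
theorem formStep1_1 : part (formStep 1) 243 1 = true := by decide +kernel
theorem formStep1_2 : part (formStep 1) 243 2 = true := by decide +kernel

theorem formStep1 : ∀ e < 729, (formStep 1) e = true :=
  of_parts (n := 243) (m := 3) (by norm_num) fun k hk => by
    interval_cases k
    exact formStep1_0
    exact formStep1_1
    exact formStep1_2

theorem formStep2_0 : part (formStep 2) 243 0 = true := by decide +kernel
theorem formStep2_1 : part (formStep 2) 243 1 = true := by decide +kernel
theorem formStep2_2 : part (formStep 2) 243 2 = true := by decide +kernel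

theorem formStep2 : ∀ e < 729, (formStep 2) e = true :=
  of_parts (n := 243) (m := 3) (by norm_num) fun k hk => by
    interval_cases k
    exact formStep2_0
    exact formStep2_1
    exact formStep2_2

theorem formStep3_0 : part (formStep 3) 243 0 = true := by decide +kernel
theorem formStep3_1 : part (formStep 3) 243 1 = true := by decide +kernel
theorem formStep3_2 : part (formStep 3) 243 2 = true := by decide +kernel

theorem formStep3 : ∀ e < 729, (formStep 3) e = true :=
  of_parts (n := 243) (m := 3) (by norm_num) fun k hk => by
    interval_cases k
    exact formStep3_0
    exact formStep3_1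
    exact formStep3_2

theorem formStep4_0 : part (formStep 4) 243 0 = true := by decide +kernel
theorem formStep4_1 : part (formStep 4) 243 1 = true := by decide +kernel
theorem formStep4_2 : part (formStep 4) 243 2 = true := by decide +kernel

theorem formStep4 : ∀ e < 729, (formStep 4) e = true :=
  of_parts (n := 243) (m := 3) (by norm_num) fun k hk => by
    interval_cases k
    exact formStep4_0
    exact formStep4_1
    exact formStep4_2

theorem formStep5_0 : part (formStep 5) 243 0 = true := by decide +kernel
theorem formStep5_1 : part (formStep 5) 243 1 = true := by decide +kernel
theorem formStep5_2 : part (formStep 5) 243 2 = true := by decide +kernel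

theorem formStep5 : ∀ e < 729, (formStep 5) e = true :=
  of_parts (n := 243) (m := 3) (by norm_num) fun k hk => by
    interval_cases k
    exact formStep5_0
    exact formStep5_1
    exact formStep5_2

theorem repStep_ok_0 : part (repStep) 182 0 = true := by decide +kernel
theorem repStep_ok_1 : part (repStep) 182 1 = true := by decide +kernel
theorem repStep_ok_2 : part (repStep) 182 2 = true := by decide +kernel
theorem repStep_ok_3 : part (repStep) 182 3 = true := by decide +kernel
theorem repStep_ok_4 : part (repStep) 182 4 = true := by decide +kernel
theorem repStep_ok_5 : part (repStep) 182 5 = true := by decide +kernel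
theorem repStep_ok_6 : part (repStep) 182 6 = true := by decide +kernel
theorem repStep_ok_7 : part (repStep) 182 7 = true := by decide +kernel

theorem repStep_ok : ∀ e < 1456, (repStep) e = true :=
  of_parts (n := 182) (m := 8) (by norm_num) fun k hk => by
    interval_cases k
    exact repStep_ok_0
    exact repStep_ok_1
    exact repStep_ok_2
    exact repStep_ok_3
    exact repStep_ok_4
    exact repStep_ok_5
    exact repStep_ok_6
    exact repStep_ok_7

theorem actStep0_0 : part (actStep 0) 182 0 = true := by decide +kernel
theorem actStep0_1 : part (actStep 0) 182 1 = true := by decide +kernel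
theorem actStep0_2 : part (actStep 0) 182 2 = true := by decide +kernel
theorem actStep0_3 : part (actStep 0) 182 3 = true := by decide +kernel
theorem actStep0_4 : part (actStep 0) 182 4 = true := by decide +kernel
theorem actStep0_5 : part (actStep 0) 182 5 = true := by decide +kernel
theorem actStep0_6 : part (actStep 0) 182 6 = true := by decide +kernel
theorem actStep0_7 : part (actStep 0) 182 7 = true := by decide +kernel

theorem actStep0 : ∀ e < 1456, (actStep 0) e = true :=
  of_parts (n := 182) (m := 8) (by norm_num) fun k hk => by
    interval_cases k
    exact actStep0_0
    exact actStep0_1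
    exact actStep0_2
    exact actStep0_3
    exact actStep0_4
    exact actStep0_5
    exact actStep0_6
    exact actStep0_7

theorem actStep1_0 : part (actStep 1) 182 0 = true := by decide +kernel
theorem actStep1_1 : part (actStep 1) 182 1 = true := by decide +kernel
theorem actStep1_2 : part (actStep 1) 182 2 = true := by decide +kernel
theorem actStep1_3 : part (actStep 1) 182 3 = true := by decide +kernel
theorem actStep1_4 : part (actStep 1) 182 4 = true := by decide +kernel
theorem actStep1_5 : part (actStep 1) 182 5 = true := by decide +kernel
theorem actStep1_6 : part (actStep 1) 182 6 = true := by decide +kernel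
theorem actStep1_7 : part (actStep 1) 182 7 = true := by decide +kernel

theorem actStep1 : ∀ e < 1456, (actStep 1) e = true :=
  of_parts (n := 182) (m := 8) (by norm_num) fun k hk => by
    interval_cases k
    exact actStep1_0
    exact actStep1_1
    exact actStep1_2
    exact actStep1_3
    exact actStep1_4
    exact actStep1_5
    exact actStep1_6
    exact actStep1_7

theorem actStep2_0 : part (actStep 2) 182 0 = true := by decide +kernel
theorem actStep2_1 : part (actStep 2) 182 1 = true := by decide +kernel
theorem actStep2_2 : part (actStep 2) 182 2 = true := by decide +kernel
theorem actStep2_3 : part (actStep 2) 182 3 = true := by decide +kernel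
theorem actStep2_4 : part (actStep 2) 182 4 = true := by decide +kernel
theorem actStep2_5 : part (actStep 2) 182 5 = true := by decide +kernel
theorem actStep2_6 : part (actStep 2) 182 6 = true := by decide +kernel
theorem actStep2_7 : part (actStep 2) 182 7 = true := by decide +kernel

theorem actStep2 : ∀ e < 1456, (actStep 2) e = true :=
  of_parts (n := 182) (m := 8) (by norm_num) fun k hk => by
    interval_cases k
    exact actStep2_0
    exact actStep2_1
    exact actStep2_2
    exact actStep2_3
    exact actStep2_4
    exact actStep2_5
    exact actStep2_6
    exact actStep2_7

theorem actStep3_0 : part (actStep 3) 182 0 = true := by decide +kernel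
theorem actStep3_1 : part (actStep 3) 182 1 = true := by decide +kernel
theorem actStep3_2 : part (actStep 3) 182 2 = true := by decide +kernel
theorem actStep3_3 : part (actStep 3) 182 3 = true := by decide +kernel
theorem actStep3_4 : part (actStep 3) 182 4 = true := by decide +kernel
theorem actStep3_5 : part (actStep 3) 182 5 = true := by decide +kernel
theorem actStep3_6 : part (actStep 3) 182 6 = true := by decide +kernel
theorem actStep3_7 : part (actStep 3) 182 7 = true := by decide +kernel

theorem actStep3 : ∀ e < 1456, (actStep 3) e = true :=
  of_parts (n := 182) (m := 8) (by norm_num) fun k hk => by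
    interval_cases k
    exact actStep3_0
    exact actStep3_1
    exact actStep3_2
    exact actStep3_3
    exact actStep3_4
    exact actStep3_5
    exact actStep3_6
    exact actStep3_7

theorem actStep4_0 : part (actStep 4) 182 0 = true := by decide +kernel
theorem actStep4_1 : part (actStep 4) 182 1 = true := by decide +kernel
theorem actStep4_2 : part (actStep 4) 182 2 = true := by decide +kernel
theorem actStep4_3 : part (actStep 4) 182 3 = true := by decide +kernel
theorem actStep4_4 : part (actStep 4) 182 4 = true := by decide +kernel
theorem actStep4_5 : part (actStep 4) 182 5 = true := by decide +kernel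
theorem actStep4_6 : part (actStep 4) 182 6 = true := by decide +kernel
theorem actStep4_7 : part (actStep 4) 182 7 = true := by decide +kernel

theorem actStep4 : ∀ e < 1456, (actStep 4) e = true :=
  of_parts (n := 182) (m := 8) (by norm_num) fun k hk => by
    interval_cases k
    exact actStep4_0
    exact actStep4_1
    exact actStep4_2
    exact actStep4_3
    exact actStep4_4
    exact actStep4_5
    exact actStep4_6
    exact actStep4_7

theorem formStep_ok {i e : ℕ} (hi : i < 6) (he : e < 729) : formStep i e = true := by
  interval_cases i
  exact formStep0 e he
  exact formStep1 e he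
  exact formStep2 e he
  exact formStep3 e he
  exact formStep4 e he
  exact formStep5 e he

theorem actStep_ok {a i : ℕ} (ha : a < 5) (hi : i < 1456) : actStep a i = true := by
  interval_cases a
  exact actStep0 i hi
  exact actStep1 i hi
  exact actStep2 i hi
  exact actStep3 i hi
  exact actStep4 i hi

/-- A part of the pairing. -/
def pairPart (k : ℕ) : ℕ := ((List.range 182).map fun e => pairTerm (182 * k + e)).sum % 3

theorem pair_parts : pairPart 0 = 0 ∧ pairPart 1 = 2 ∧ pairPart 2 = 1 ∧ pairPart 3 = 1 ∧
    pairPart 4 = 1 ∧ pairPart 5 = 0 ∧ pairPart 6 = 0 ∧ pairPart 7 = 0 := by
  decide +kernel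

end Cfsg.Agent.StemCert.G2Three.Cover
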