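import Cfsg.Agent.Lib.StemCert.JankoThreeData
import Cfsg.Agent.Lib.JankoThree.Data

/-! Kernel checks of the certificates for the multiplier of J₃. -/

set_option autoImplicit false
set_option maxRecDepth 20000

namespace Cfsg.Agent.StemCert.JankoThree

open Cfsg.Agent.JankoThree (mmul idCode peq isMin)

/-- The code of an element of a list. -/
def codeOf (l : List (ℕ × ℕ × ℕ × ℕ)) (i : ℕ) : ℕ := (l.getD i (idCode, 0, 0, 0)).1

/-- The product of a word in a list. -/
def wprod (l : List (ℕ × ℕ × ℕ × ℕ)) : List ℕ → ℕ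
  | [] => idCode
  | i :: w => mmul (codeOf l i) (wprod l w)

/-- Membership certificates. -/
def memOk (l : List (ℕ × ℕ × ℕ × ℕ)) : Bool :=
  l.all fun q => Nat.blt q.2.1 2160 && Nat.blt q.2.2.1 28 && Nat.blt q.2.2.2 2160 &&
    peq q.1 (mmul (JankoThree.Data.cert.hm q.2.1)
      (mmul (JankoThree.Data.cert.rep q.2.2.1) (JankoThree.Data.cert.hm q.2.2.2)))

/-- The identities in the group. -/
def groupOk (C : Cert) (gl cl : List (ℕ × ℕ × ℕ × ℕ)) (forms : List ℕ) : Bool :=
  memOk gl && memOk cl && Nat.beq gl.length C.m &&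
  C.slots.all (fun s => Nat.blt s.1 cl.length &&
    peq (mmul (codeOf cl s.1) (forms.getD s.2.1 0)) (mmul (forms.getD s.2.2 0) (codeOf cl s.1))) &&
  C.rels.all (fun r => peq (wprod gl r.1) (wprod gl r.2)) &&
  Nat.beq forms.length C.N &&
  (List.range C.N).all (fun e => isMin (forms.getD e 0) && Nat.blt (forms.getD e 0) (2 ^ 162) &&
    peq (wprod gl (C.lets e)) (forms.getD e 0)) &&
  decide forms.Nodup

end Cfsg.Agent.StemCert.JankoThree
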