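import Cfsg.Agent.Lib.StemCert.JankoTwoData
import Cfsg.Agent.Lib.Icosian.CentCheck

/-! Kernel checks of the certificates for the multiplier of J₂. -/

set_option autoImplicit false
set_option maxRecDepth 20000

namespace Cfsg.Agent.StemCert.JankoTwo

open Cfsg.Agent.Icosian

/-- A word in the generators as a word in the elements. -/
def flat (gw : List (List ℕ)) (w : List ℕ) : List ℕ := w.flatMap fun i => gw.getD i []

/-- The identities in the group. -/
def groupOk (C : Cert) (gw cw : List (List ℕ)) : Bool :=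
  (gw ++ cw).all (fun w => w.all fun k => Nat.blt k elemTabs.length) &&
  C.rels.all (fun r => sigF (flat gw r.1) == sigF (flat gw r.2)) &&
  C.slots.all (fun s => sigF (cw.getD s.1 [] ++ flat gw (C.lets s.2.1)) ==
    sigF (flat gw (C.lets s.2.2) ++ cw.getD s.1 [])) &&
  decide ((List.range C.N).map fun e => sigF (flat gw (C.lets e))).Nodup

theorem check5 : cert5.shapeOk = true ∧ cert5.tabOk = true ∧ cert5.linOk = true ∧
    groupOk cert5 gens5 conj5 = true ∧ cert5.c = 0 ∧ cert5.N = 25 ∧ cert5.n = 5 := by decide +kernel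

theorem check3 : cert3.shapeOk = true ∧ cert3.tabOk = true ∧ cert3.linOk = true ∧
    groupOk cert3 gens3 conj3 = true ∧ cert3.c = 0 ∧ cert3.N = 27 ∧ cert3.n = 3 := by decide +kernel

theorem check2 : cert2.shapeOk = true ∧ cert2.tabOk = true ∧ cert2.linOk = true ∧
    groupOk cert2 gens2 conj2 = true ∧ cert2.boundOk 2 = true ∧ cert2.N = 128 ∧ cert2.n = 4 := by
  decide +kernel

end Cfsg.Agent.StemCert.JankoTwo
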