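import Cfsg.Agent.Lib.StemCert.Bound
import Cfsg.Agent.Lib.StemCert.JankoTwoCheck
import Cfsg.Agent.Lib.SchurSplit.SmallMain
import Cfsg.Agent.Lib.Icosian.Outer
import Cfsg.Prelude.Def_KGroupFacts

/-!
The Schur multiplier of J₂ has order two.
-/

set_option autoImplicit false
set_option maxRecDepth 100000

namespace Cfsg.Agent.StemCert.JankoTwo

open Cfsg.Agent.Icosian Cfsg.Spor Quaternion
open Cfsg.Agent.Icosian.Enum Cfsg.Agent.Icosian.Qz
open Cfsg.Agent.Icosian.Outer
open scoped commutatorElement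

theorem flat_lt {gw : List (List ℕ)} (h : ∀ w ∈ gw, ∀ k ∈ w, k < elemTabs.length) (w : List ℕ) :
    ∀ a ∈ flat gw w, a < elemTabs.length := by
  intro a ha
  obtain ⟨i, -, hi⟩ := List.mem_flatMap.1 ha
  by_cases h' : i < gw.length
  · rw [List.getD_eq_getElem _ _ h'] at hi
    exact h _ (List.getElem_mem h') a hi
  · rw [List.getD_eq_default _ _ (not_lt.1 h')] at hi
    simp at hi

theorem flat_prod (gw : List (List ℕ)) : ∀ w : List ℕ,
    wordPerm (flat gw w) = (w.map fun i => wordPerm (gw.getD i [])).prod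
  | [] => rfl
  | i :: w => by
    rw [flat, List.flatMap_cons, wordPerm_append, List.map_cons, List.prod_cons]
    exact congrArg _ (flat_prod gw w)

/-- The bound on stem extensions of `rho.range` from a certificate. -/
theorem cert_bound (C : Cert) (gw cw : List (List ℕ)) (hshape : C.shapeOk = true)
    (htab : C.tabOk = true) (hlin : C.linOk = true) (hg : groupOk C gw cw = true)
    (hco : Nat.Coprime C.n (604800 / C.N))
    {Γ : Type} [Group Γ] [Finite Γ] (π : Γ →* J2) (hπ : Function.Surjective π)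
    (hc : π.ker ≤ Subgroup.center Γ) (hd : π.ker ≤ commutator Γ) (hexp : ∀ z ∈ π.ker, z ^ C.n = 1) :
    ∃ cv : Γ, π.ker ≤ Subgroup.zpowers cv ∧ (C.c = 0 → cv = 1) ∧
      (∀ k, C.boundOk k = true → cv ^ k = 1) := by
  classical
  simp only [groupOk, Bool.and_eq_true, List.all_eq_true, Nat.blt_eq, beq_iff_eq,
    decide_eq_true_eq] at hg
  obtain ⟨⟨⟨hlt, hrel⟩, hslot⟩, hnd⟩ := hg
  have hgw : ∀ w ∈ gw, ∀ k ∈ w, k < elemTabs.length := fun w hw => hlt w (List.mem_append_left _ hw)
  have hcw : ∀ i, ∀ a ∈ cw.getD i [], a < elemTabs.length := by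
    intro i a ha
    by_cases h' : i < cw.length
    · rw [List.getD_eq_getElem _ _ h'] at ha
      exact hlt _ (List.mem_append_right _ (List.getElem_mem h')) a ha
    · rw [List.getD_eq_default _ _ (not_lt.1 h')] at ha
      simp at ha
  have hone : ∀ {w : List ℕ}, (∀ a ∈ w, a < elemTabs.length) → wordPerm w ∈ Icosian.rho.range :=
    fun hw => word_mem_R hw
  have hgi : ∀ i, ∀ a ∈ gw.getD i [], a < elemTabs.length := fun i a ha => by
    refine flat_lt hgw [i] a ?_
    simpa [flat] using ha
  let g : ℕ → Icosian.rho.range := fun i => ⟨wordPerm (gw.getD i []), hone (hgi i)⟩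
  let γ : ℕ → Icosian.rho.range := fun i => ⟨wordPerm (cw.getD i []), hone (hcw i)⟩
  have hp : ∀ w : List ℕ, ((w.map g).prod : Equiv.Perm (Fin 315)) = wordPerm (flat gw w) := by
    intro w
    rw [flat_prod, Subgroup.val_list_prod, List.map_map]
    rfl
  have hsub : ∀ (u v : List ℕ), sigF (flat gw u) = sigF (flat gw v) →
      (u.map g).prod = (v.map g).prod := fun u v h => Subtype.ext (by
    rw [hp, hp]; exact (sig_eq_iff (flat_lt hgw u) (flat_lt hgw v)).1 h)
  let π' : Γ →* Icosian.rho.range := j2Equiv.toMonoidHom.comp π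
  have hker : π'.ker = π.ker := by
    ext x
    show j2Equiv (π x) = 1 ↔ π x = 1
    exact j2Equiv.map_eq_one_iff
  have hcardR : Nat.card Icosian.rho.range = 604800 := card_range_rho
  haveI : Finite Icosian.rho.range := Nat.finite_of_card_ne_zero (by rw [hcardR]; norm_num)
  have := ker_le_of_cert C hshape htab hlin g γ ?_ ?_ ?_ ?_ π' (j2Equiv.surjective.comp hπ)
    (hker ▸ hc) (hker ▸ hd) (hker ▸ hexp)
  · rwa [hker] at this
  · intro r hr
    refine hsub _ _ (hrel (C.rel r) ?_)
    rw [Cert.rel, List.getD_eq_getElem _ _ hr]; exact List.getElem_mem _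
  · intro s hs
    have h := hslot (C.slot s) (by rw [Cert.slot, List.getD_eq_getElem _ _ hs]; exact List.getElem_mem _)
    have h1 : ∀ (u v : List ℕ), (∀ a ∈ u, a < elemTabs.length) → (∀ a ∈ v, a < elemTabs.length) →
        ∀ a ∈ u ++ v, a < elemTabs.length := fun u v hu hv a ha =>
      (List.mem_append.1 ha).elim (hu a) (hv a)
    have h2 := (sig_eq_iff (h1 _ _ (hcw _) (flat_lt hgw _)) (h1 _ _ (flat_lt hgw _) (hcw _))).1 h
    rw [wordPerm_append, wordPerm_append, ← hp, ← hp] at h2
    exact Subtype.ext h2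
  · intro e he f hf hef
    refine List.inj_on_of_nodup_map hnd (List.mem_range.2 he) (List.mem_range.2 hf) ?_
    have hef' := congrArg Subtype.val hef
    simp only [Cert.sP] at hef'
    rw [hp, hp] at hef'
    exact (sig_eq_iff (flat_lt hgw _) (flat_lt hgw _)).2 hef'
  · intro H hH
    have h := Subgroup.card_mul_index H
    rw [hH, hcardR] at h
    rw [← h, Nat.mul_div_cancel_left _ (hH ▸ Nat.card_pos)] at hco
    exact hco

theorem noKer_odd : ∀ p, p.Prime → p ≠ 2 → NoKer J2 p := by
  intro p hp hp2 E _ _ π hπ hc hd hcard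
  haveI : Finite J2 := Finite.of_surjective π hπ
  have hJ : Nat.card J2 = 604800 := by
    rw [Nat.card_congr j2Equiv.toEquiv]; exact card_range_rho
  by_cases hsq : p ^ 2 ∣ Nat.card J2
  swap
  · exact SchurSplit.noExt_of_sq_not_dvd hp hsq E π hπ hc hcard hd
  have hexp : ∀ z ∈ π.ker, z ^ p = 1 := fun z hz => by
    have h := pow_card_eq_one' (x := (⟨z, hz⟩ : π.ker))
    rw [hcard] at h
    simpa [Subtype.ext_iff] using h
  have hple : p ≤ 777 := by
    rw [hJ] at hsq
    by_contra hlt
    have := Nat.le_of_dvd (by norm_num) hsq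
    have h2 : 778 ^ 2 ≤ p ^ 2 := Nat.pow_le_pow_left (by omega) 2
    omega
  have hp35 : p = 3 ∨ p = 5 := by
    have hall : ∀ q : Fin 778, (q : ℕ) ^ 2 ∣ 604800 → 2 < (q : ℕ) → (∀ d : Fin 28, 2 ≤ (d : ℕ) →
        (d : ℕ) < q → ¬ (d : ℕ) ∣ q) → (q : ℕ) = 3 ∨ (q : ℕ) = 5 := by decide +kernel
    refine hall ⟨p, by omega⟩ (hJ ▸ hsq) (lt_of_le_of_ne hp.two_le (Ne.symm hp2)) fun d hd1 hd2 hdp => ?_
    simp only at hd2
    rcases (Nat.dvd_prime hp).1 hdp with h | h <;> omega
  have key : ∀ cv : E, π.ker ≤ Subgroup.zpowers cv → cv = 1 → False := by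
    intro cv hle h1
    rw [h1, Subgroup.zpowers_one_eq_bot, le_bot_iff] at hle
    rw [hle, Subgroup.card_bot] at hcard
    exact hp.one_lt.ne hcard
  rcases hp35 with rfl | rfl
  · obtain ⟨h1, h2, h3, h4, h5, hN, hn⟩ := check3
    obtain ⟨cv, hle, h0, -⟩ := cert_bound cert3 gens3 conj3 h1 h2 h3 h4
      (by rw [hn, hN]; decide +kernel) π hπ hc hd (by rw [hn]; exact hexp)
    exact key cv hle (h0 h5)
  · obtain ⟨h1, h2, h3, h4, h5, hN, hn⟩ := check5
    obtain ⟨cv, hle, h0, -⟩ := cert_bound cert5 gens5 conj5 h1 h2 h3 h4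
      (by rw [hn, hN]; decide +kernel) π hπ hc hd (by rw [hn]; exact hexp)
    exact key cv hle (h0 h5)

theorem noKer_four : NoKer J2 4 := by
  intro E _ _ π hπ hc hd hcard
  have hexp : ∀ z ∈ π.ker, z ^ 4 = 1 := fun z hz => by
    have h := pow_card_eq_one' (x := (⟨z, hz⟩ : π.ker))
    rw [hcard] at h
    simpa [Subtype.ext_iff] using h
  obtain ⟨h1, h2, h3, h4, h5, hN, hn⟩ := check2
  obtain ⟨cv, hle, -, h0⟩ := cert_bound cert2 gens2 conj2 h1 h2 h3 h4
    (by rw [hn, hN]; decide +kernel) π hπ hc hd (by rw [hn]; exact hexp)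
  have hcard2 := Subgroup.card_le_of_le hle
  rw [Nat.card_zpowers, hcard] at hcard2
  have := orderOf_le_of_pow_eq_one (by norm_num) (h0 2 h5)
  omega

/-- A word in the four reflections whose square is negation. -/
def rootWord : List ℕ := [0, 1, 3, 2, 1, 3, 0, 1, 3, 2, 1, 3, 0, 1, 3, 2, 1, 3]

/-- The lines of the four reflections. -/
def fourLine : List ℕ := [312, 95, 114, 248]

/-- The images of the first line along a word of reflections. -/
def runV : List ℕ → V3 → V3
  | [], v => v
  | k :: w, v => reflV (lines.getD (fourLine.getD k 0) ⟨Qz.zero, Qz.zero, Qz.zero⟩) (runV w v)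

theorem root_check :
    sigF (rootWord ++ rootWord) = detLines ∧ (rootWord ++ rootWord).all (fun k => Nat.blt k 4) = true ∧
    (List.range (rootWord ++ rootWord).length).all
      (fun j => lamB (runV ((rootWord ++ rootWord).drop j) (lines.getD 0 ⟨Qz.zero, Qz.zero, Qz.zero⟩))) =
      true ∧
    (runV (rootWord ++ rootWord) (lines.getD 0 ⟨Qz.zero, Qz.zero, Qz.zero⟩) ==
      lines.getD 0 ⟨Qz.zero, Qz.zero, Qz.zero⟩) = false ∧
    reflData.map (fun e => (e.1, e.2.1)) = [(312, elemTabs.getD 0 0), (95, elemTabs.getD 1 0),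
      (114, elemTabs.getD 2 0), (248, elemTabs.getD 3 0)] ∧ 4 ≤ elemTabs.length ∧
    fourLine.all (fun k => Nat.blt k 315) = true := by
  decide +kernel

/-- Reflection number `k` among the four. -/
noncomputable def fourRefl (k : ℕ) : twoJ2 :=
  refl2 ⟨fourLine.getD k 0 % 315, Nat.mod_lt _ (by norm_num)⟩

theorem rho_fourRefl {k : ℕ} (hk : k < 4) : rho (fourRefl k) = elem k := by
  obtain ⟨-, -, -, -, hlist, hlen, -⟩ := root_check
  have hm : (fourLine.getD k 0, elemTabs.getD k 0) ∈ reflData.map (fun e => (e.1, e.2.1)) := by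
    rw [hlist]
    interval_cases k <;> simp [fourLine]
  obtain ⟨e, he, hee⟩ := List.mem_map.1 hm
  obtain ⟨g, hg, hrep⟩ := rep_refl he
  simp only [Prod.mk.injEq] at hee
  have hgk : g = ⟨fourLine.getD k 0 % 315, Nat.mod_lt _ (by norm_num)⟩ :=
    Fin.ext (by
      show (g : ℕ) = fourLine.getD k 0 % 315
      rw [hg, hee.1, Nat.mod_eq_of_lt]
      interval_cases k <;> norm_num [fourLine])
  rw [fourRefl, ← hgk]
  refine Equiv.ext fun x => Fin.ext ?_
  rw [← (elem_spec (show k < elemTabs.length by omega)).2 x, ← hee.2]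
  exact (hrep x).symm

theorem exists_sq_negTwo : ∃ a : twoJ2, a * a = negTwo := by
  obtain ⟨hsig, hall, hlam, hne, -, hlen, hfl⟩ := root_check
  simp only [List.all_eq_true, Nat.blt_eq] at hall hfl
  refine ⟨(rootWord.map fourRefl).prod, ?_⟩
  rw [← List.prod_append, ← List.map_append]
  generalize rootWord ++ rootWord = w at hsig hall hlam hne ⊢
  have hlam' : ∀ j, j < w.length → Lam (runV (w.drop j) (lines.getD 0 ⟨Qz.zero, Qz.zero, Qz.zero⟩)) := by
    intro j hj
    exact List.all_eq_true.1 hlam j (List.mem_range.2 hj)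
  have hl0 : lines.getD 0 ⟨Qz.zero, Qz.zero, Qz.zero⟩ = line 0 := rfl
  rw [hl0] at hlam' hne
  have hpt : ∀ u : List ℕ, (∀ k ∈ u, k < 4) →
      (∀ j, j < u.length → Lam (runV (u.drop j) (line 0))) →
      ((((u.map fourRefl).prod : twoJ2).1 (pointL 0) : icoLeech) : Fin 3 → ℍ[ℝ]) =
        psi (runV u (line 0)) := by
    intro u
    induction u with
    | nil => intro _ _; rfl
    | cons k u ih =>
      intro hk hl
      have hu : Lam (runV u (line 0)) := by
        cases u with
        | nil => exact (line_spec 0).1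
        | cons l u => simpa using hl 1 (by simp)
      have ih' := ih (fun x hx => hk x (List.mem_cons_of_mem _ hx))
        (fun j hj => by simpa using hl (j + 1) (by simpa using hj))
      have hk4 := hk k List.mem_cons_self
      have hline : line ⟨fourLine.getD k 0 % 315, Nat.mod_lt _ (by norm_num)⟩ =
          lines.getD (fourLine.getD k 0) ⟨Qz.zero, Qz.zero, Qz.zero⟩ := by
        interval_cases k <;> rfl
      rw [List.map_cons, List.prod_cons, Subgroup.coe_mul, Equiv.Perm.mul_apply]
      show ((lineRefl _ _ : icoLeech) : Fin 3 → ℍ[ℝ]) = _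
      rw [lineRefl, coe_reflPerm, ih']
      show qrefl (psi (line _)) _ = _
      rw [← psi_reflV (line_spec _).1 hu, hline]
      rfl
  have hk : (w.map fourRefl).prod ∈ rho.ker := by
    rw [MonoidHom.mem_ker, map_list_prod, List.map_map]
    have : w.map (rho ∘ fourRefl) = w.map elem :=
      List.map_congr_left fun k hk => rho_fourRefl (hall k hk)
    rw [this]
    exact (sig_one fun a ha => by have := hall a ha; omega).1 hsig
  rcases mem_ker_rho.1 hk with h | h
  · exfalso
    have e := hpt w hall hlam'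
    rw [h] at e
    have hrun : Lam (runV w (line 0)) := by
      cases w with
      | nil => exact (line_spec 0).1
      | cons l u => simpa using hlam' 0 (by simp)
    have e' : psi (line 0) = psi (runV w (line 0)) := e
    rw [beq_eq_false_iff_ne] at hne
    exact hne (psi_injective e'.symm)
  · exact h

theorem stem_two : IsStemExtension (QuotientGroup.mk' (Subgroup.center twoJ2)) := by
  refine ⟨QuotientGroup.mk'_surjective _, by rw [QuotientGroup.ker_mk'], ?_⟩
  rw [QuotientGroup.ker_mk', center_eq_ker]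
  intro x hx
  rcases mem_ker_rho.1 hx with rfl | rfl
  · exact one_mem _
  haveI := range_simple
  haveI : IsSimpleGroup J2 := j2Equiv.isSimpleGroup
  obtain ⟨a, ha⟩ := exists_sq_negTwo
  let q := QuotientGroup.mk' (Subgroup.center twoJ2)
  have hmap : (commutator twoJ2).map q = ⊤ := by
    rcases Subgroup.Normal.eq_bot_or_eq_top (H := (commutator twoJ2).map q)
      ((inferInstance : (commutator twoJ2).Normal).map q (QuotientGroup.mk'_surjective _)) with h | h
    · exfalso
      obtain ⟨u, v, huv⟩ := range_nonabelian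
      obtain ⟨u', hu'⟩ := (j2Equiv.surjective.comp (QuotientGroup.mk'_surjective _)) u
      obtain ⟨v', hv'⟩ := (j2Equiv.surjective.comp (QuotientGroup.mk'_surjective _)) v
      refine huv ?_
      rw [← hu', ← hv']
      simp only [Function.comp_apply, ← map_mul]
      congr 1
      have hm : ⁅u', v'⁆ ∈ commutator twoJ2 := by
        rw [commutator_def]
        exact Subgroup.commutator_mem_commutator (Subgroup.mem_top _) (Subgroup.mem_top _)
      have := (Subgroup.map_eq_bot_iff _).1 h hm
      rw [MonoidHom.mem_ker, map_commutatorElement, commutatorElement_eq_one_iff_mul_comm] at this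
      rw [map_mul, map_mul]
      exact this
    · exact h
  obtain ⟨c, hc, hca⟩ : q a ∈ (commutator twoJ2).map q := hmap ▸ Subgroup.mem_top _
  have hk : c⁻¹ * a ∈ rho.ker := by
    rw [← center_eq_ker, ← QuotientGroup.ker_mk' (Subgroup.center twoJ2), MonoidHom.mem_ker]
    show q (c⁻¹ * a) = 1
    rw [map_mul, map_inv, hca, inv_mul_cancel]
  rw [← ha]
  rcases mem_ker_rho.1 hk with h | h
  · rw [inv_mul_eq_one] at h
    subst h
    exact mul_mem hc hc
  · rw [inv_mul_eq_iff_eq_mul] at h
    have h1 : negTwo * negTwo = 1 :=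
      Subtype.ext (Equiv.ext fun x => Subtype.ext (by
        show ((negLeech (negLeech x) : icoLeech) : Fin 3 → ℍ[ℝ]) = _
        rw [coe_negLeech, coe_negLeech, neg_neg]
        rfl))
    rw [h, mul_assoc, ← mul_assoc negTwo, ← negTwo_comm, mul_assoc, h1, mul_one]
    exact mul_mem hc hc

theorem multiplier : Cfsg.HasCyclicSchurMultiplier J2 2 := by
  haveI : Fact (Nat.Prime 2) := ⟨Nat.prime_two⟩
  haveI : Finite twoJ2 := Nat.finite_of_card_ne_zero (by rw [card_twoJ2]; norm_num)
  have hker : Nat.card (QuotientGroup.mk' (Subgroup.center twoJ2)).ker = 2 := by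
    rw [QuotientGroup.ker_mk', center_eq_ker]; exact card_ker_rho
  refine ⟨⟨twoJ2, inferInstance, inferInstance, _, stem_two,
    ⟨mulEquivOfPrimeCardEq (p := 2) hker (by simp)⟩⟩, ?_⟩
  intro Γ _ _ σ hσ
  obtain ⟨hs, hc, hd⟩ := hσ
  haveI : Finite J2 := Finite.of_surjective σ hs
  rcases card_ker_le_two noKer_odd noKer_four σ hs hc hd with h | h
  · haveI := (Nat.card_eq_one_iff_unique.1 h).1
    exact ⟨1, fun x => ⟨1, Subsingleton.elim _ _⟩⟩
  · have e : Multiplicative (ZMod 2) ≃* σ.ker := mulEquivOfPrimeCardEq (p := 2) (by simp) h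
    exact ⟨e.toMonoidHom, e.surjective⟩

end Cfsg.Agent.StemCert.JankoTwo
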